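import Groth.Agent.CohCmpLib.Degree0
import Groth.Agent.Coherent.FiniteType

/-!
# The comparison maps `H^p(f⁻¹V, F) → Γ(V, R^p f_* F)` are locally bijective
-/

set_option autoImplicit false
set_option backward.isDefEq.respectTransparency false

universe u

open CategoryTheory CategoryTheory.Limits CategoryTheory.Abelian AlgebraicGeometry Opposite
  TopologicalSpace
open CohPull CohCmp
open Groth.Agent.Coherent

namespace Groth.Agent.CohCmpLib

theorem resLE_resLE {X : Scheme.{u}} (F : X.Modules) {U U' U'' : X.Opens} (h : U' ≤ U)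
    (h' : U'' ≤ U') (p : ℕ) (x : Coh.HHon X F U p) :
    resLE F h' p (resLE F h p x) = resLE F (h'.trans h) p x := by
  refine ext_delta U (fun p F => Coh.HHon X F U'' p)
    (fun p F => (resLE F h' p).comp (resLE F h p)) (fun p F => resLE F (h'.trans h) p)
    (fun S hS p t => extδ (shortExact_toAbOn U'' hS) p t) ?_ ?_ ?_ p F x
  · intro S hS hA p x
    exact (congrArg (resLE S.X₁ h' (p + 1))
      (resLE_extδ h hA (shortExact_toAbOn U' hS) p x)).trans
        (resLE_extδ h' (shortExact_toAbOn U' hS) (shortExact_toAbOn U'' hS) p _)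
  · intro S hS hA p x
    exact resLE_extδ (h'.trans h) hA (shortExact_toAbOn U'' hS) p x
  · intro F x
    obtain ⟨s, rfl⟩ := HHon_ext_zero x
    refine ((congrArg (resLE F h' 0) (resLE_sectH0 F h s)).trans (resLE_sectH0 F h' _)).trans ?_
    exact (congrArg (sectH0 F U'') (resM_resM F h h' s)).trans (resLE_sectH0 F (h'.trans h) s).symm

/-- In an exact sequence of modules, sections killed by the second map lift locally. -/
theorem exists_local_preimage_of_exact {Y : Scheme.{u}} (C : ShortComplex Y.Modules) (hC : C.Exact)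
    (V : Y.Opens) (z : Γ(C.X₂, V)) (hz : C.g.app V z = 0) (y : Y) (hy : y ∈ V) :
    ∃ (W : Y.Opens) (hWV : W ≤ V), y ∈ W ∧ ∃ t : Γ(C.X₁, W), C.f.app W t = resM _ hWV z := by
  obtain ⟨φ, rfl⟩ := (freeModOnEquiv V C.X₂).surjective z
  have h0 : φ ≫ C.g = 0 := by
    refine (freeModOnEquiv V C.X₃).injective ?_
    refine ((freeModOnEquiv_comp V φ C.g).trans hz).trans ?_
    exact (app_genMod V (0 : (freeModOn Y).obj V ⟶ C.X₃))
  have := C.exact_iff_epi_kernel_lift.1 hC
  obtain ⟨W, hWV, hyW, t, ht⟩ := exists_lift_of_epi (kernel.lift C.g C.f C.zero) V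
    (freeModOnEquiv V (kernel C.g) (kernel.lift C.g φ h0)) y hy
  refine ⟨W, hWV, hyW, t, ?_⟩
  have h1 : (kernel.ι C.g).app V (freeModOnEquiv V (kernel C.g) (kernel.lift C.g φ h0)) =
      freeModOnEquiv V C.X₂ φ := by
    rw [← freeModOnEquiv_comp, kernel.lift_ι]
  have h2 : (kernel.ι C.g).app W ((kernel.lift C.g C.f C.zero).app W t) = C.f.app W t :=
    congr(($(kernel.lift_ι C.g C.f C.zero)).app W t)
  rw [← h2, ht, app_resM, h1]

variable {X Y : Scheme.{u}} (f : X ⟶ Y) [HasInjectiveResolutions X.Modules]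
  {Δ : RDer.DerivedLES (Scheme.Modules.pushforward f)} (E : SectCmp f Δ)

theorem isIso_toRightDerivedZero_app (F : X.Modules) :
    IsIso ((Scheme.Modules.pushforward f).toRightDerivedZero.app F) := by
  have : PreservesLimitsOfSize.{0, 0} (Scheme.Modules.pushforward f) :=
    (Scheme.Modules.pullbackPushforwardAdjunction f).rightAdjoint_preservesLimits
  infer_instance

theorem app_bijective_of_isIso {M N : Y.Modules} (φ : M ⟶ N) [IsIso φ] (V : Y.Opens) :
    Function.Bijective (φ.app V) := by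
  have h₁ : ∀ m : Γ(M, V), (inv φ).app V (φ.app V m) = m := fun m =>
    congr(($(IsIso.hom_inv_id φ)).app V m)
  have h₂ : ∀ m : Γ(N, V), φ.app V ((inv φ).app V m) = m := fun m =>
    congr(($(IsIso.inv_hom_id φ)).app V m)
  exact Function.bijective_iff_has_inverse.2 ⟨fun n => (inv φ).app V n, h₁, h₂⟩

theorem bijective_ε_zero (V : Y.Opens) (F : X.Modules) : Function.Bijective (E.ε V F 0) := by
  have := isIso_toRightDerivedZero_app f F
  have hb := app_bijective_of_isIso ((Scheme.Modules.pushforward f).toRightDerivedZero.app F) V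
  have he : ⇑(E.ε V F 0) ∘ ⇑(sectH0 F (f ⁻¹ᵁ V)) =
      fun s => ((Scheme.Modules.pushforward f).toRightDerivedZero.app F).app V s :=
    funext fun s => E.zero V F s
  exact (Function.Bijective.of_comp_iff _ (sectH0 F (f ⁻¹ᵁ V)).bijective).1 (he ▸ hb)

/-- The comparison maps commute with restriction. -/
theorem ε_res {V W : Y.Opens} (hWV : W ≤ V) (F : X.Modules) (p : ℕ)
    (x : Coh.HHon X F (f ⁻¹ᵁ V) p) :
    resM ((Coh.Rpush f p).obj F) hWV (E.ε V F p x) =
      E.ε W F p (resLE F (f.preimage_mono hWV) p x) := by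
  refine ext_delta (f ⁻¹ᵁ V) (fun p F => ((Coh.Rpush f p).obj F).presheaf.obj (op W))
    (fun p F => (((Coh.Rpush f p).obj F).presheaf.map (homOfLE hWV).op).hom.comp (E.ε V F p))
    (fun p F => (E.ε W F p).comp (resLE F (f.preimage_mono hWV) p))
    (fun S hS p t => (Δ.δ S hS p (p + 1) rfl).app W t) ?_ ?_ ?_ p F x
  · intro S hS hA p x
    refine (congrArg (resM _ hWV) (E.delta V S hS hA p x)).trans ?_
    exact (app_resM (Δ.δ S hS p (p + 1) rfl) hWV _).symm
  · intro S hS hA p x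
    exact (congrArg (E.ε W S.X₁ (p + 1)) (resLE_extδ _ hA (shortExact_toAbOn _ hS) p x)).trans
      (E.delta W S hS (shortExact_toAbOn _ hS) p _)
  · intro F x
    obtain ⟨s, rfl⟩ := HHon_ext_zero x
    refine (congrArg (resM _ hWV) (E.zero V F s)).trans ?_
    refine ((app_resM _ hWV _).symm.trans ?_)
    refine (E.zero W F _).symm.trans ?_
    exact congrArg (E.ε W F 0) (resLE_sectH0 F (f.preimage_mono hWV) s).symm

/-- The connecting map to the first term is onto, the middle term being injective. -/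
theorem epi_δ_of_injective {S : ShortComplex X.Modules} (hS : S.ShortExact) [Injective S.X₂]
    (p : ℕ) : Epi (Δ.δ S hS p (p + 1) rfl) :=
  (Δ.exact₁ S hS p (p + 1) rfl).epi_f
    (((Scheme.Modules.pushforward f).isZero_rightDerived_obj_injective_succ p S.X₂).eq_of_tgt _ _)

theorem ε_locally_surjective : ∀ (p : ℕ) (F : X.Modules) (V : Y.Opens)
    (t : ((Coh.Rpush f p).obj F).presheaf.obj (op V)) (y : Y), y ∈ V →
    ∃ (W : Y.Opens) (hWV : W ≤ V), y ∈ W ∧ ∃ x : Coh.HHon X F (f ⁻¹ᵁ W) p,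
      E.ε W F p x = resM ((Coh.Rpush f p).obj F) hWV t := by
  intro p
  induction p with
  | zero =>
    intro F V t y hy
    obtain ⟨x, hx⟩ := (bijective_ε_zero f E V F).2 t
    exact ⟨V, le_rfl, hy, x, hx.trans (resM_refl _ _).symm⟩
  | succ p ih =>
    intro F V t y hy
    obtain ⟨S, hS, rfl, hI⟩ := exists_injective_shortExact F
    have := epi_δ_of_injective f hS (Δ := Δ) p
    obtain ⟨W₁, h₁, hy₁, b, hb⟩ := exists_lift_of_epi (Δ.δ S hS p (p + 1) rfl) V t y hy
    obtain ⟨W, h₂, hy₂, x, hx⟩ := ih S.X₃ W₁ b y hy₁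
    refine ⟨W, h₂.trans h₁, hy₂, extδ (shortExact_toAbOn (f ⁻¹ᵁ W) hS) p x, ?_⟩
    refine (E.delta W S hS (shortExact_toAbOn _ hS) p x).trans ?_
    refine (congrArg ((Δ.δ S hS p (p + 1) rfl).app W) hx).trans ?_
    refine (app_resM _ h₂ b).trans ?_
    exact (congrArg (resM _ h₂) hb).trans (resM_resM _ h₁ h₂ t)

/-- A section killed by the connecting map lifts locally. -/
theorem exists_lift_of_app_δ {S : ShortComplex X.Modules} (hS : S.ShortExact) (p : ℕ)
    (V : Y.Opens) (z : ((Coh.Rpush f p).obj S.X₃).presheaf.obj (op V))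
    (hz : (Δ.δ S hS p (p + 1) rfl).app V z = 0) (y : Y) (hy : y ∈ V) :
    ∃ (W : Y.Opens) (hWV : W ≤ V), y ∈ W ∧ ∃ t : ((Coh.Rpush f p).obj S.X₂).presheaf.obj (op W),
      ((Coh.Rpush f p).map S.g).app W t = resM _ hWV z := by
  let C := ShortComplex.mk _ _ (Δ.comp_δ S hS p (p + 1) rfl)
  have hC : C.Exact := Δ.exact₃ S hS p (p + 1) rfl
  exact exists_local_preimage_of_exact C hC V z hz y hy

theorem ε_locally_injective : ∀ (p : ℕ) (F : X.Modules) (V : Y.Opens)
    (x : Coh.HHon X F (f ⁻¹ᵁ V) p), E.ε V F p x = 0 → ∀ y ∈ V,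
    ∃ (W : Y.Opens) (hWV : W ≤ V), y ∈ W ∧ resLE F (f.preimage_mono hWV) p x = 0 := by
  intro p
  induction p with
  | zero =>
    intro F V x hx y hy
    refine ⟨V, le_rfl, hy, ?_⟩
    rw [(bijective_ε_zero f E V F).1 (hx.trans (map_zero _).symm), map_zero]
  | succ p ih =>
    intro F V x hx y hy
    obtain ⟨S, hS, rfl, hI⟩ := exists_injective_shortExact F
    obtain ⟨x', rfl⟩ := exists_extδ_eq (f ⁻¹ᵁ V) (shortExact_toAbOn _ hS)
      (subsingleton_HHon_of_injective _ S.X₂ p) x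
    obtain ⟨W₁, h₁, hy₁, t, ht⟩ := exists_lift_of_app_δ f hS p V (E.ε V S.X₃ p x')
      ((E.delta V S hS _ p x').symm.trans hx) y hy
    obtain ⟨W₂, h₂, hy₂, w, hw⟩ := ε_locally_surjective f E p S.X₂ W₁ t y hy₁
    let d := resLE S.X₃ (f.preimage_mono (h₂.trans h₁)) p x' -
      mapH ((Scheme.Modules.restrictFunctor (f ⁻¹ᵁ W₂).ι).map S.g) p w
    have hd : E.ε W₂ S.X₃ p d = 0 := by
      refine (map_sub (E.ε W₂ S.X₃ p) _ _).trans (sub_eq_zero.2 ?_)
      refine Eq.trans ?_ (E.natural W₂ S.g p w).symm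
      refine (ε_res f E (h₂.trans h₁) S.X₃ p x').symm.trans ?_
      refine Eq.trans ?_ (congrArg (((Coh.Rpush f p).map S.g).app W₂) hw).symm
      refine Eq.trans ?_ (app_resM ((Coh.Rpush f p).map S.g) h₂ t).symm
      exact (resM_resM _ h₁ h₂ _).symm.trans (congrArg (resM _ h₂) ht.symm)
    obtain ⟨W, h₃, hy₃, hd0⟩ := ih S.X₃ W₂ d hd y hy₂
    refine ⟨W, h₃.trans (h₂.trans h₁), hy₃, ?_⟩
    have key : extδ (shortExact_toAbOn (f ⁻¹ᵁ W₂) hS) p d =
        extδ (shortExact_toAbOn (f ⁻¹ᵁ W₂) hS) p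
          (resLE S.X₃ (f.preimage_mono (h₂.trans h₁)) p x') := by
      refine (map_sub (extδ _ p) _ _).trans ?_
      exact sub_eq_self.2 (extδ_mapH _ _ w)
    have key2 := congrArg (resLE S.X₁ (f.preimage_mono h₃) (p + 1)) key
    refine (resLE_resLE S.X₁ (f.preimage_mono (h₂.trans h₁)) (f.preimage_mono h₃) (p + 1) _).symm.trans ?_
    refine (congrArg (resLE S.X₁ (f.preimage_mono h₃) (p + 1))
      (resLE_extδ (f.preimage_mono (h₂.trans h₁)) _ (shortExact_toAbOn (f ⁻¹ᵁ W₂) hS) p x')).trans ?_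
    refine key2.symm.trans ?_
    refine (resLE_extδ (f.preimage_mono h₃) _ (shortExact_toAbOn (f ⁻¹ᵁ W) hS) p d).trans ?_
    exact (congrArg (extδ (shortExact_toAbOn (f ⁻¹ᵁ W) hS) p) hd0).trans
      (map_zero (extδ (shortExact_toAbOn (f ⁻¹ᵁ W) hS) p))

end Groth.Agent.CohCmpLib
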