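import Groth.Agent.CohCmpLib.Edge
import Groth.Agent.CohCmpLib.Compare

/-!
# The comparison maps on affine opens of the base: linearity and bijectivity
-/

set_option autoImplicit false
set_option backward.isDefEq.respectTransparency false

universe u

open CategoryTheory CategoryTheory.Limits CategoryTheory.Abelian AlgebraicGeometry Opposite
  TopologicalSpace
open CohPull CohCmp
open Groth.Agent.Coherent Groth.Agent.PicLib

namespace Groth.Agent.CohCmpLib

section Acyc

variable {S : Scheme.{u}} (U : S.Opens)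

/-- No higher cohomology over `U`. -/
def Acyc (N : S.Modules) : Prop := ∀ j : ℕ, Subsingleton (Coh.HHon S N U (j + 1))

theorem Acyc.of_iso {N N' : S.Modules} (h : Acyc U N) (e : N ≅ N') : Acyc U N' := fun j => by
  have := h j
  refine subsingleton_of_forall_eq 0 fun x => ?_
  have hid : (Scheme.Modules.restrictFunctor U.ι).map e.inv ≫
      (Scheme.Modules.restrictFunctor U.ι).map e.hom = 𝟙 (N'.restrict U.ι) := by
    rw [← Functor.map_comp, e.inv_hom_id, CategoryTheory.Functor.map_id]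
  have hx : mapH ((Scheme.Modules.restrictFunctor U.ι).map e.hom) (j + 1)
      (mapH ((Scheme.Modules.restrictFunctor U.ι).map e.inv) (j + 1) x) = x := by
    refine (Sheaf.H.map_comp_apply _ _ _).symm.trans ?_
    rw [← Functor.map_comp, hid, CategoryTheory.Functor.map_id]
    exact Sheaf.H.map_id_apply _
  rw [← hx, Subsingleton.elim (mapH ((Scheme.Modules.restrictFunctor U.ι).map e.inv) (j + 1) x) 0]
  exact map_zero _

theorem Acyc.middle {T : ShortComplex S.Modules} (hT : T.ShortExact) (h₁ : Acyc U T.X₁)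
    (h₃ : Acyc U T.X₃) : Acyc U T.X₂ := fun j => by
  refine subsingleton_of_forall_eq 0 fun x => ?_
  obtain ⟨y, rfl⟩ := Ext.covariant_sequence_exact₂ _ (shortExact_toAbOn U hT) x
    (@Subsingleton.elim _ (h₃ j) _ _)
  rw [@Subsingleton.elim _ (h₁ j) y 0]
  erw [Ext.zero_comp]

theorem Acyc.right {T : ShortComplex S.Modules} (hT : T.ShortExact) (h₁ : Acyc U T.X₁)
    (h₂ : Acyc U T.X₂) : Acyc U T.X₃ := fun j => by
  refine subsingleton_of_forall_eq 0 fun x => ?_
  obtain ⟨w, rfl⟩ := exists_mapH_eq U (shortExact_toAbOn U hT) x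
    (@Subsingleton.elim _ (h₁ (j + 1)) _ _)
  rw [@Subsingleton.elim _ (h₂ j) w 0]
  exact map_zero _

/-- Sections of the quotient lift when the kernel is acyclic. -/
theorem app_surjective_of_acyc {T : ShortComplex S.Modules} (hT : T.ShortExact) (h₁ : Acyc U T.X₁) :
    Function.Surjective (T.g.app U) := fun z => by
  obtain ⟨w, hw⟩ := exists_mapH_eq U (shortExact_toAbOn U hT) (sectH0 T.X₃ U z)
    (@Subsingleton.elim _ (h₁ 0) _ _)
  obtain ⟨s, rfl⟩ := HHon_ext_zero w
  exact ⟨s, (sectH0 T.X₃ U).injective ((mapH_sectH0 T.g s).symm.trans hw)⟩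

theorem exists_app_eq_of_app_eq_zero {T : ShortComplex S.Modules} (hT : T.ShortExact)
    (z : Γ(T.X₂, U)) (hz : T.g.app U z = 0) : ∃ s, T.f.app U s = z := by
  have h : mapH ((Scheme.Modules.restrictFunctor U.ι).map T.g) 0 (sectH0 T.X₂ U z) = 0 :=
    (mapH_sectH0 T.g z).trans ((congrArg _ hz).trans (map_zero _))
  obtain ⟨w, hw⟩ := Ext.covariant_sequence_exact₂ _ (shortExact_toAbOn U hT) _ h
  obtain ⟨s, rfl⟩ := HHon_ext_zero w
  exact ⟨s, (sectH0 T.X₂ U).injective ((mapH_sectH0 T.f s).symm.trans hw)⟩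

theorem Acyc.right' {A B C : S.Modules} {α : A ⟶ B} {β : B ⟶ C} {w : α ≫ β = 0}
    (hT : (ShortComplex.mk α β w).ShortExact) (h₁ : Acyc U A) (h₂ : Acyc U B) : Acyc U C :=
  Acyc.right U (T := ShortComplex.mk α β w) hT h₁ h₂

theorem Acyc.middle' {A B C : S.Modules} {α : A ⟶ B} {β : B ⟶ C} {w : α ≫ β = 0}
    (hT : (ShortComplex.mk α β w).ShortExact) (h₁ : Acyc U A) (h₃ : Acyc U C) : Acyc U B :=
  Acyc.middle U (T := ShortComplex.mk α β w) hT h₁ h₃

theorem shortExact_kernel_of_epi {A B : S.Modules} (φ : A ⟶ B) [Epi φ] :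
    (ShortComplex.mk (kernel.ι φ) φ (kernel.condition φ)).ShortExact :=
  { exact := ShortComplex.exact_of_f_is_kernel _ (kernelIsKernel φ) }

/-- Sections of a cokernel lift when the kernel is acyclic. -/
theorem app_surjective_of_acyc' {A B C : S.Modules} {α : A ⟶ B} {β : B ⟶ C} {w : α ≫ β = 0}
    (hT : (ShortComplex.mk α β w).ShortExact) (h₁ : Acyc U A) : Function.Surjective (β.app U) :=
  app_surjective_of_acyc U hT h₁

theorem exists_app_eq_of_app_eq_zero' {A B C : S.Modules} {α : A ⟶ B} {β : B ⟶ C} {w : α ≫ β = 0}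
    (hT : (ShortComplex.mk α β w).ShortExact) (z : Γ(B, U)) (hz : β.app U z = 0) :
    ∃ s, α.app U s = z :=
  exists_app_eq_of_app_eq_zero U hT z hz

theorem acyc_of_isAffineOpen (hU : IsAffineOpen U) (N : S.Modules) [Coh.IsQCoh N] : Acyc U N :=
  fun j => subsingleton_HHon_of_isAffineOpen N hU (j + 1) j.succ_pos

end Acyc

variable {X S : Scheme.{u}} (f : X ⟶ S) [HasInjectiveResolutions X.Modules]
  {Δ : RDer.DerivedLES (Scheme.Modules.pushforward f)} (E : SectCmp f Δ)

omit [HasInjectiveResolutions X.Modules] in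
theorem acyc_push_of_injective (U : S.Opens) (I : X.Modules) [Injective I] :
    Acyc U ((Scheme.Modules.pushforward f).obj I) := fun j => by
  have h := isFlasque_toAb_of_injective I
  have hp : TopCat.Sheaf.IsFlasque (X := S.toTopCat)
      (Coh.toAb ((Scheme.Modules.pushforward f).obj I)) :=
    { epi := fun i => h.epi ((Opens.map f.base).map i.unop).op }
  have : Subsingleton (Sheaf.H' (Coh.toAb ((Scheme.Modules.pushforward f).obj I)) (j + 1) U) :=
    subsingleton_H'_of_isFlasque (X := S.toTopCat) _ U j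
  exact (HHonEquiv ((Scheme.Modules.pushforward f).obj I) U (j + 1)).subsingleton

theorem acyc_rpush_zero_of_injective (U : S.Opens) (I : X.Modules) [Injective I] :
    Acyc U ((Coh.Rpush f 0).obj I) := by
  have := isIso_toRightDerivedZero_app f I
  exact (acyc_push_of_injective f U I).of_iso U
    (asIso ((Scheme.Modules.pushforward f).toRightDerivedZero.app I))

section Shift

variable (U : S.Opens) {T : ShortComplex X.Modules} (hT : T.ShortExact)

/-- The kernel of the first connecting map. -/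
noncomputable abbrev kerδ : S.Modules := kernel (Δ.δ T hT 0 1 rfl)

/-- `R⁰X₁ → R⁰X₂ → ker δ`. -/
noncomputable def seqKer : ShortComplex S.Modules :=
  ShortComplex.mk ((Coh.Rpush f 0).map T.f)
    (kernel.lift (Δ.δ T hT 0 1 rfl) ((Coh.Rpush f 0).map T.g) (Δ.comp_δ T hT 0 1 rfl)) (by
      rw [← cancel_mono (kernel.ι _), Category.assoc, kernel.lift_ι, zero_comp, ← Functor.map_comp,
        T.zero, Functor.map_zero])

theorem shortExact_seqKer : (ShortComplex.mk ((Coh.Rpush f 0).map T.f)
    (kernel.lift (Δ.δ T hT 0 1 rfl) ((Coh.Rpush f 0).map T.g) (Δ.comp_δ T hT 0 1 rfl))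
    (seqKer f (Δ := Δ) hT).zero).ShortExact := by
  refine { exact := ?_, mono_f := ?_, epi_g := ?_ }
  · let φ : seqKer f (Δ := Δ) hT ⟶ ShortComplex.mk ((Coh.Rpush f 0).map T.f) ((Coh.Rpush f 0).map T.g)
        (by rw [← Functor.map_comp, T.zero, Functor.map_zero]) :=
      ShortComplex.homMk (𝟙 _) (𝟙 _) (kernel.ι _) (by simp [seqKer]) (by simp [seqKer])
    have : Epi φ.τ₁ := inferInstanceAs (Epi (𝟙 _))
    have : IsIso φ.τ₂ := inferInstanceAs (IsIso (𝟙 _))
    have : Mono φ.τ₃ := inferInstanceAs (Mono (kernel.ι _))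
    exact (ShortComplex.exact_iff_of_epi_of_isIso_of_mono φ).2 (Δ.exact₂ T hT 0)
  · have : PreservesLimitsOfSize.{0, 0} (Scheme.Modules.pushforward f) :=
      (Scheme.Modules.pullbackPushforwardAdjunction f).rightAdjoint_preservesLimits
    have := hT.mono_f
    have := isIso_toRightDerivedZero_app f T.X₁
    have := isIso_toRightDerivedZero_app f T.X₂
    have e := (Scheme.Modules.pushforward f).toRightDerivedZero.naturality T.f
    have : Mono ((Scheme.Modules.pushforward f).toRightDerivedZero.app T.X₁ ≫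
        (Coh.Rpush f 0).map T.f) := by
      have e' : (Scheme.Modules.pushforward f).toRightDerivedZero.app T.X₁ ≫
          (Coh.Rpush f 0).map T.f = (Scheme.Modules.pushforward f).map T.f ≫
          (Scheme.Modules.pushforward f).toRightDerivedZero.app T.X₂ := e.symm
      rw [e']
      infer_instance
    exact (MorphismProperty.cancel_left_of_respectsIso (MorphismProperty.monomorphisms S.Modules)
      ((Scheme.Modules.pushforward f).toRightDerivedZero.app T.X₁) ((Coh.Rpush f 0).map T.f)).1 this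
  · exact (Δ.exact₃ T hT 0 1 rfl).epi_kernelLift

theorem shortExact_seqδ [Injective T.X₂] :
    (ShortComplex.mk (kernel.ι (Δ.δ T hT 0 1 rfl)) (Δ.δ T hT 0 1 rfl)
      (kernel.condition _)).ShortExact :=
  have := epi_δ_of_injective f hT (Δ := Δ) 0
  shortExact_kernel_of_epi _

theorem acyc_kerδ [Injective T.X₂] (h : Acyc U ((Coh.Rpush f 0).obj T.X₁)) :
    Acyc U (kerδ f (Δ := Δ) hT) :=
  Acyc.right' U (shortExact_seqKer f (Δ := Δ) hT) h (acyc_rpush_zero_of_injective f U T.X₂)

theorem isIso_δ_succ [Injective T.X₂] (q : ℕ) : IsIso (Δ.δ T hT (q + 1) (q + 2) rfl) := by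
  have := epi_δ_of_injective f hT (Δ := Δ) (q + 1)
  have : Mono (Δ.δ T hT (q + 1) (q + 2) rfl) :=
    (Δ.exact₃ T hT (q + 1) (q + 2) rfl).mono_g
      (((Scheme.Modules.pushforward f).isZero_rightDerived_obj_injective_succ q T.X₂).eq_of_src _ _)
  exact isIso_of_mono_of_epi _

include hT in
theorem acyc_rpush_X₃ [Injective T.X₂] (Δ : RDer.DerivedLES (Scheme.Modules.pushforward f))
    (h : ∀ k, Acyc U ((Coh.Rpush f k).obj T.X₁)) :
    ∀ k, Acyc U ((Coh.Rpush f k).obj T.X₃) := by
  intro k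
  cases k with
  | zero => exact Acyc.middle' U (shortExact_seqδ f (Δ := Δ) hT) (acyc_kerδ f (Δ := Δ) U hT (h 0)) (h 1)
  | succ k =>
    have := isIso_δ_succ f (Δ := Δ) hT k
    exact (h (k + 2)).of_iso U (asIso (Δ.δ T hT (k + 1) (k + 2) rfl)).symm

end Shift

/-- The comparison is bijective over opens on which the direct images have no higher cohomology. -/
theorem bijective_ε_of_acyc (U : S.Opens) : ∀ (q : ℕ) (M : X.Modules),
    (∀ k, Acyc U ((Coh.Rpush f k).obj M)) → Function.Bijective (E.ε U M q) := by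
  intro q
  induction q with
  | zero => exact fun M _ => bijective_ε_zero f E U M
  | succ q ih =>
    intro M hM
    obtain ⟨T, hT, rfl, hI⟩ := exists_injective_shortExact M
    have hQ := ih T.X₃ (acyc_rpush_X₃ f U hT Δ hM)
    have hA := shortExact_toAbOn (f ⁻¹ᵁ U) hT
    constructor
    · refine (injective_iff_map_eq_zero _).2 fun z hz => ?_
      obtain ⟨y, rfl⟩ := exists_extδ_eq (f ⁻¹ᵁ U) hA
        (subsingleton_HHon_of_injective _ T.X₂ q) z
      have h0 : (Δ.δ T hT q (q + 1) rfl).app U (E.ε U T.X₃ q y) = 0 :=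
        (E.delta U T hT hA q y).symm.trans hz
      cases q with
      | zero =>
        obtain ⟨c, hc⟩ := exists_app_eq_of_app_eq_zero' U (shortExact_seqδ f (Δ := Δ) hT) _ h0
        obtain ⟨w, hw⟩ := app_surjective_of_acyc' U (shortExact_seqKer f (Δ := Δ) hT) (hM 0) c
        obtain ⟨w', rfl⟩ := (bijective_ε_zero f E U T.X₂).2 w
        have : y = mapH ((Scheme.Modules.restrictFunctor (f ⁻¹ᵁ U).ι).map T.g) 0 w' := by
          refine hQ.1 (hc.symm.trans ?_)
          refine Eq.trans ?_ (E.natural U T.g 0 w').symm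
          rw [← hw]
          exact congr(($(kernel.lift_ι (Δ.δ T hT 0 1 rfl) ((Coh.Rpush f 0).map T.g)
            (Δ.comp_δ T hT 0 1 rfl))).app U _)
        rw [this]
        exact extδ_mapH _ hA w'
      | succ q =>
        have := isIso_δ_succ f (Δ := Δ) hT q
        have hy : y = 0 := hQ.1 (((app_bijective_of_isIso (Δ.δ T hT (q + 1) (q + 2) rfl) U).1
          (h0.trans (map_zero _).symm)).trans (map_zero _).symm)
        rw [hy]
        exact map_zero _
    · intro t
      obtain ⟨s, rfl⟩ : ∃ s, (Δ.δ T hT q (q + 1) rfl).app U s = t := by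
        cases q with
        | zero =>
          exact app_surjective_of_acyc' U (shortExact_seqδ f (Δ := Δ) hT)
            (acyc_kerδ f (Δ := Δ) U hT (hM 0)) t
        | succ q =>
          have := isIso_δ_succ f (Δ := Δ) hT q
          exact (app_bijective_of_isIso (Δ.δ T hT (q + 1) (q + 2) rfl) U).2 t
      obtain ⟨y, rfl⟩ := hQ.2 s
      exact ⟨extδ hA q y, E.delta U T hT hA q y⟩

/-- `H^q(f⁻¹U, M) → Γ(U, R^q f_* M)` is bijective for affine `U`. -/
theorem bijective_ε_of_isAffineOpen [QuasiCompact f] [QuasiSeparated f] (M : X.Modules)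
    [Coh.IsQCoh M] {U : S.Opens} (hU : IsAffineOpen U) (q : ℕ) :
    Function.Bijective (E.ε U M q) :=
  bijective_ε_of_acyc f E U q M fun k =>
    have := isQCoh_rpush f M k
    acyc_of_isAffineOpen U hU _

section Linear

variable {U : S.Opens}

/-- A function on `U` as a global function on `f⁻¹ U`. -/
noncomputable abbrev pullFun (b : Γ(S, U)) : Γ((f ⁻¹ᵁ U).toScheme, ⊤) :=
  (f ⁻¹ᵁ U).topIso.inv (f.app U b)

omit [HasInjectiveResolutions X.Modules] in
theorem extδ_smul {T : ShortComplex X.Modules} {V : X.Opens}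
    (hA : (T.map (toAbOn X V)).ShortExact) (r : Γ(V.toScheme, ⊤)) (p : ℕ)
    (x : Coh.HHon X T.X₃ V p) :
    extδ hA p (Sheaf.H.map (Coh.smulAb (T.X₃.restrict V.ι) r) p x) =
      Sheaf.H.map (Coh.smulAb (T.X₁.restrict V.ι) r) (p + 1) (extδ hA p x) := by
  have hn : ∀ {P Q : X.Modules} (φ : P ⟶ Q), (toAbOn X V).map φ ≫ Coh.smulAb (Q.restrict V.ι) r =
      Coh.smulAb (P.restrict V.ι) r ≫ (toAbOn X V).map φ := fun {P Q} φ =>
    (CategoryTheory.Sheaf.hom_ext (NatTrans.ext (funext fun W => AddCommGrpCat.hom_ext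
      (AddMonoidHom.ext fun m => by
        exact (((Scheme.Modules.restrictFunctor V.ι).map φ).app_smul
          ((V.toScheme.presheaf.map (homOfLE le_top).op) r) m)))) :
      Coh.smulAb (P.restrict V.ι) r ≫ (toAbOn X V).map φ = _).symm
  exact extClass_natural hA hA
    (ShortComplex.homMk (S₁ := T.map (toAbOn X V)) (S₂ := T.map (toAbOn X V))
      (Coh.smulAb (T.X₁.restrict V.ι) r) (Coh.smulAb (T.X₂.restrict V.ι) r)
      (Coh.smulAb (T.X₃.restrict V.ι) r) (hn T.f).symm (hn T.g).symm) p x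

omit [HasInjectiveResolutions X.Modules] in
theorem sectH0_smul (F : X.Modules) (V : X.Opens) (a : Γ(X, V)) (s : Γ(F, V)) :
    sectH0 F V (a • s) =
      Sheaf.H.map (Coh.smulAb (F.restrict V.ι) (V.topIso.inv a)) 0 (sectH0 F V s) := by
  refine Eq.trans ?_ (Sheaf.H.equiv₀_symm_naturality isTerminalTop _ _).symm
  refine congrArg (Sheaf.H.equiv₀ (Coh.toAb (F.restrict V.ι)) isTerminalTop).symm ?_
  refine (F.map_smul (eqToHom V.ι_image_top) a s).trans ?_
  refine Eq.trans ?_ (Coh.smulAb_app (F.restrict V.ι) (V.topIso.inv a) (op ⊤)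
    ((F.presheaf.map (eqToHom V.ι_image_top).op s))).symm
  show _ = ((V.ι.appIso ⊤).inv (V.toScheme.presheaf.map (homOfLE le_top).op (V.topIso.inv a))) •
    (F.presheaf.map (eqToHom V.ι_image_top).op s)
  congr 1
  simp [Scheme.Opens.topIso]
  rfl

/-- The comparison is linear over functions on the open. -/
theorem ε_smul (F : X.Modules) (p : ℕ) (b : Γ(S, U)) (x : Coh.HHon X F (f ⁻¹ᵁ U) p) :
    E.ε U F p (Sheaf.H.map (Coh.smulAb (F.restrict (f ⁻¹ᵁ U).ι) (pullFun f b)) p x) =
      b • E.ε U F p x := by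
  refine ext_delta (f ⁻¹ᵁ U) (fun p F => ((Coh.Rpush f p).obj F).presheaf.obj (op U))
    (fun p F => (E.ε U F p).comp
      (Sheaf.H.map (Coh.smulAb (F.restrict (f ⁻¹ᵁ U).ι) (pullFun f b)) p))
    (fun p F => (DistribSMul.toAddMonoidHom Γ((Coh.Rpush f p).obj F, U) b).comp (E.ε U F p))
    (fun T hT p t => (Δ.δ T hT p (p + 1) rfl).app U t) ?_ ?_ ?_ p F x
  · intro T hT hA p x
    exact (congrArg (E.ε U T.X₁ (p + 1)) (extδ_smul hA (pullFun f b) p x).symm).trans
      (E.delta U T hT hA p _)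
  · intro T hT hA p x
    show b • E.ε U T.X₁ (p + 1) (extδ hA p x) = (Δ.δ T hT p (p + 1) rfl).app U (b • E.ε U T.X₃ p x)
    exact (congrArg (b • ·) (E.delta U T hT hA p x)).trans
      ((Δ.δ T hT p (p + 1) rfl).app_smul b (E.ε U T.X₃ p x)).symm
  · intro F x
    obtain ⟨s, rfl⟩ := HHon_ext_zero x
    refine (congrArg (E.ε U F 0) (sectH0_smul F (f ⁻¹ᵁ U) (f.app U b) s).symm).trans ?_
    refine (E.zero U F _).trans ?_
    refine (Eq.trans ?_ (((Scheme.Modules.pushforward f).toRightDerivedZero.app F).app_smul b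
      (show Γ((Scheme.Modules.pushforward f).obj F, U) from s))).trans ?_
    · rfl
    · exact congrArg (b • ·) (E.zero U F s).symm

end Linear

end Groth.Agent.CohCmpLib
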