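import Groth.Agent.CohCmpLib.OpenClass

/-!
# Pullback of classes along a composite
-/

set_option autoImplicit false
set_option backward.isDefEq.respectTransparency false

universe u

open CategoryTheory CategoryTheory.Limits CategoryTheory.Abelian AlgebraicGeometry Opposite
  TopologicalSpace
open CohPull CohCmp
open Groth.Agent.Coherent Groth.Agent.PicLib

namespace Groth.Agent.CohCmpLib

section Top

variable {X Y Z : TopCat.{u}}

/-- `(g ∘ f)⁻¹ ⟶ f⁻¹ g⁻¹`. -/
noncomputable def compNat (f : X ⟶ Y) (g : Y ⟶ Z) : inv (f ≫ g) ⟶ inv g ⋙ inv f where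
  app M := ((invPushAdj (f ≫ g)).homEquiv M ((inv f).obj ((inv g).obj M))).symm
    ((invPushAdj g).unit.app M ≫ (CohTop.push g).map ((invPushAdj f).unit.app ((inv g).obj M)))
  naturality M N φ := by
    refine ((invPushAdj (f ≫ g)).homEquiv M _).injective ?_
    rw [Adjunction.homEquiv_naturality_left, Adjunction.homEquiv_naturality_right]
    erw [Equiv.apply_symm_apply, Equiv.apply_symm_apply]
    have h₁ := (invPushAdj g).unit.naturality φ
    have h₂ := (invPushAdj f).unit.naturality ((inv g).map φ)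
    refine ((Category.assoc _ _ _).symm.trans (congrArg (· ≫ _) h₁)).trans ?_
    refine (Category.assoc _ _ _).trans ?_
    refine Eq.trans ?_ (Category.assoc _ _ _).symm
    refine congrArg ((invPushAdj g).unit.app M ≫ ·) ?_
    exact (((CohTop.push g).map_comp ((inv g).map φ) ((invPushAdj f).unit.app ((inv g).obj N))).symm.trans
      (congrArg (fun t => (CohTop.push g).map t) h₂)).trans
        ((CohTop.push g).map_comp ((invPushAdj f).unit.app ((inv g).obj M))
          ((CohTop.push f).map ((inv f).map ((inv g).map φ))))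

theorem compNat_app_unit (f : X ⟶ Y) (g : Y ⟶ Z) (M : CohTop.Ab Z) (W : Opens Z)
    (m : M.obj.obj (op W)) :
    ((compNat f g).app M).hom.app (op ((Opens.map (f ≫ g)).obj W))
        (((invPushAdj (f ≫ g)).unit.app M).hom.app (op W) m) =
      ((invPushAdj f).unit.app ((inv g).obj M)).hom.app (op ((Opens.map g).obj W))
        (((invPushAdj g).unit.app M).hom.app (op W) m) := by
  have h := ((invPushAdj (f ≫ g)).homEquiv M ((inv f).obj ((inv g).obj M))).apply_symm_apply
    ((invPushAdj g).unit.app M ≫ (CohTop.push g).map ((invPushAdj f).unit.app ((inv g).obj M)))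
  rw [Adjunction.homEquiv_unit] at h
  exact ConcreteCategory.congr_hom (congrArg (fun t => t.hom.app (op W)) h) m

theorem inv_map_unit (f : X ⟶ Y) {M N : CohTop.Ab Y} (φ : M ⟶ N) (W : Opens Y)
    (m : M.obj.obj (op W)) :
    ((inv f).map φ).hom.app (op ((Opens.map f).obj W))
        (((invPushAdj f).unit.app M).hom.app (op W) m) =
      ((invPushAdj f).unit.app N).hom.app (op W) (φ.hom.app (op W) m) :=
  (ConcreteCategory.congr_hom
    (congrArg (fun t => t.hom.app (op W)) ((invPushAdj f).unit.naturality φ)) m).symm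

theorem exists_injective_shortExact_ab (M : CohTop.Ab Z) :
    ∃ (S : ShortComplex (CohTop.Ab Z)) (_ : S.ShortExact), S.X₁ = M ∧ Injective S.X₂ :=
  ⟨injSES M, injSES_shortExact M, rfl, inferInstanceAs (Injective (Injective.under M))⟩

/-- Pullback of classes along a composite is the composite of the pullbacks. -/
theorem pullAb_comp (f : X ⟶ Y) (g : Y ⟶ Z) : ∀ (p : ℕ) (M : CohTop.Ab Z) (x : Sheaf.H M p),
    Sheaf.H.map ((compNat f g).app M) p (pullAb (f ≫ g) M p x) =
      pullAb f _ p (pullAb g M p x) := by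
  intro p
  induction p with
  | zero =>
    intro M x
    apply (Sheaf.H.equiv₀ ((inv f).obj ((inv g).obj M)) isTerminalTop).injective
    refine (Sheaf.H.equiv₀_naturality isTerminalTop _ _).symm.trans ?_
    refine (congrArg _ (equiv₀_pullAb (f ≫ g) M x)).trans ?_
    refine (compNat_app_unit f g M ⊤ _).trans ?_
    refine Eq.trans ?_ (equiv₀_pullAb f _ _).symm
    exact congrArg (fun t => ((invPushAdj f).unit.app ((inv g).obj M)).hom.app (op ⊤) t)
      (equiv₀_pullAb g M x).symm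
  | succ p ih =>
    intro M x
    obtain ⟨S, hS, rfl, hI⟩ := exists_injective_shortExact_ab M
    obtain ⟨y, rfl⟩ := Ext.covariant_sequence_exact₁ _ hS x (Ext.eq_zero_of_injective _) rfl
    have h₁ : (S.map (inv g)).ShortExact := hS.map_of_exact _
    have h₂ : ((S.map (inv g)).map (inv f)).ShortExact := h₁.map_of_exact _
    refine (pullAb_delta (f ≫ g) hS h₂ (S.mapNatTrans (compNat f g)) p y).symm.trans ?_
    refine Eq.trans ?_ (congrArg (pullAb f _ (p + 1))
      ((pullAb_delta g hS h₁ (𝟙 _) p y).trans (Sheaf.H.map_id_apply _)))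
    refine Eq.trans ?_ ((pullAb_delta f h₁ h₂ (𝟙 _) p _).trans (Sheaf.H.map_id_apply _))
    refine congrArg (fun t => Ext.comp t h₂.extClass rfl) ?_
    refine (ih S.X₃ y).trans ?_
    refine Eq.trans ?_ (Sheaf.H.map_id_apply _).symm
    exact congrArg (pullAb f _ p) (Sheaf.H.map_id_apply _).symm

/-- Two maps out of inverse images along equal maps agree on classes if they agree on pulled back
sections. -/
theorem hmap_pullAb_congr {r r' : X ⟶ Y} (e : r = r') {K : CohTop.Ab Y} {N : CohTop.Ab X}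
    (μ : (inv r).obj K ⟶ N) (ν : (inv r').obj K ⟶ N)
    (h : ∀ (W : Opens Y) (m : K.obj.obj (op W)),
      μ.hom.app (op ((Opens.map r).obj W)) (((invPushAdj r).unit.app K).hom.app (op W) m) =
        N.obj.map (homOfLE (congrArg (fun t => (Opens.map t).obj W) e).le).op
          (ν.hom.app (op ((Opens.map r').obj W)) (((invPushAdj r').unit.app K).hom.app (op W) m)))
    (p : ℕ) (x : Sheaf.H K p) :
    Sheaf.H.map μ p (pullAb r K p x) = Sheaf.H.map ν p (pullAb r' K p x) := by
  subst e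
  have : μ = ν := by
    refine ((invPushAdj r).homEquiv K N).injective ?_
    rw [Adjunction.homEquiv_unit, Adjunction.homEquiv_unit]
    refine CategoryTheory.Sheaf.hom_ext (NatTrans.ext (funext fun W => ?_))
    ext m
    refine (h W.unop m).trans ?_
    refine Eq.trans ?_ (ConcreteCategory.congr_hom (N.obj.map_id _) _)
    rfl
  rw [this]

theorem hmap_chain (f : X ⟶ Y) (g : Y ⟶ Z) {M : CohTop.Ab Z} {M₁ : CohTop.Ab Y} {M₂ N : CohTop.Ab X}
    (a : (inv g).obj M ⟶ M₁) (b : (inv f).obj M₁ ⟶ M₂) (c : M₂ ⟶ N) (p : ℕ) (x : Sheaf.H M p) :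
    Sheaf.H.map c p (Sheaf.H.map b p (pullAb f M₁ p (Sheaf.H.map a p (pullAb g M p x)))) =
      Sheaf.H.map ((compNat f g).app M ≫ (inv f).map a ≫ b ≫ c) p (pullAb (f ≫ g) M p x) := by
  rw [pullAb_natural, ← pullAb_comp]
  simp only [Sheaf.H.map_apply, Ext.comp_assoc_of_third_deg_zero, Ext.mk₀_comp_mk₀, Category.assoc]

theorem chain_sections (f : X ⟶ Y) (g : Y ⟶ Z) {M : CohTop.Ab Z} {M₁ : CohTop.Ab Y}
    {M₂ N : CohTop.Ab X} (a : (inv g).obj M ⟶ M₁) (b : (inv f).obj M₁ ⟶ M₂) (c : M₂ ⟶ N)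
    (W : Opens Z) (m : M.obj.obj (op W)) {u₁ : M₁.obj.obj (op ((Opens.map g).obj W))}
    {u₂ : M₂.obj.obj (op ((Opens.map f).obj ((Opens.map g).obj W)))}
    {u₃ : N.obj.obj (op ((Opens.map f).obj ((Opens.map g).obj W)))}
    (h₁ : a.hom.app (op ((Opens.map g).obj W)) (((invPushAdj g).unit.app M).hom.app (op W) m) = u₁)
    (h₂ : b.hom.app (op ((Opens.map f).obj ((Opens.map g).obj W)))
      (((invPushAdj f).unit.app M₁).hom.app (op ((Opens.map g).obj W)) u₁) = u₂)
    (h₃ : c.hom.app (op ((Opens.map f).obj ((Opens.map g).obj W))) u₂ = u₃) :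
    ((compNat f g).app M ≫ (inv f).map a ≫ b ≫ c).hom.app (op ((Opens.map (f ≫ g)).obj W))
      (((invPushAdj (f ≫ g)).unit.app M).hom.app (op W) m) = u₃ := by
  subst h₁ h₂ h₃
  refine (congrArg (fun t => c.hom.app _ (b.hom.app _ (((inv f).map a).hom.app _ t)))
    (compNat_app_unit f g M W m)).trans ?_
  exact congrArg (fun t => c.hom.app _ (b.hom.app _ t)) (inv_map_unit f a ((Opens.map g).obj W)
    (((invPushAdj g).unit.app M).hom.app (op W) m))

end Top

variable {X Y Z : Scheme.{u}}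

theorem restrictIso_hom_app' (F : Y.Modules) (U : Y.Opens) (W : (U : Scheme.{u}).Opens)
    (m : Γ(F, U.ι ''ᵁ W)) :
    ((Scheme.Modules.restrictFunctorIsoPullback U.ι).hom.app F).app W (show Γ(F.restrict U.ι, W) from m) =
      resM _ (U.ι.preimage_image_eq W).ge (pullSec U.ι m) := by
  rw [← restrictIso_hom_app U.ι F (U.ι ''ᵁ W) m, ← app_resM]
  refine congrArg _ ?_
  change m = resM F ((U.ι.opensFunctor.map (homOfLE (U.ι.preimage_image_eq W).ge)).le)
    (resM F (U.ι.image_preimage_le (U.ι ''ᵁ W)) m)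
  rw [resM_resM]
  exact (resM_refl _ _).symm

theorem restrictIso_inv_app' (F : Y.Modules) (U : Y.Opens) (W : (U : Scheme.{u}).Opens)
    (V : Y.Opens) (hV : U.ι ''ᵁ W ≤ V) (e : W ≤ U.ι ⁻¹ᵁ V) (m : Γ(F, V)) :
    ((Scheme.Modules.restrictFunctorIsoPullback U.ι).inv.app F).app W (resM _ e (pullSec U.ι m)) =
      (show Γ(F.restrict U.ι, W) from resM F hV m) := by
  have h : resM _ e (pullSec U.ι m) =
      ((Scheme.Modules.restrictFunctorIsoPullback U.ι).hom.app F).app W
        (show Γ(F.restrict U.ι, W) from resM F hV m) := by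
    rw [restrictIso_hom_app', ← resM_pullSec, resM_resM]
  rw [h]
  exact congr(($((Scheme.Modules.restrictFunctorIsoPullback U.ι).hom_inv_id_app F)).app W _)

theorem app_hom_of_inv {M N : X.Modules} (e : M ≅ N) (W : X.Opens) {m : Γ(M, W)} {n : Γ(N, W)}
    (h : e.inv.app W n = m) : e.hom.app W m = n := by
  rw [← h]
  exact congr(($(e.inv_hom_id)).app W n)

set_option maxHeartbeats 1000000 in
theorem pullOnIso_app_pullSec (g : X ⟶ Y) (U : Y.Opens) (U' : X.Opens) (h : U' ≤ g ⁻¹ᵁ U)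
    (F : Y.Modules) (W : (U : Scheme.{u}).Opens)
    (le : U'.ι ''ᵁ (g.resLE U U' h ⁻¹ᵁ W) ≤ g ⁻¹ᵁ (U.ι ''ᵁ W)) (m : Γ(F, U.ι ''ᵁ W)) :
    (pullOnIso g U U' h F).hom.app (g.resLE U U' h ⁻¹ᵁ W)
        (pullSec (g.resLE U U' h) (show Γ(F.restrict U.ι, W) from m)) =
      (show Γ(((Scheme.Modules.pullback g).obj F).restrict U'.ι, g.resLE U U' h ⁻¹ᵁ W) from
        resM _ le (pullSec g m)) := by
  let r := g.resLE U U' h
  let W' := r ⁻¹ᵁ W
  let V := U.ι ''ᵁ W
  have e₁ : W' ≤ (r ≫ U.ι) ⁻¹ᵁ V := ((Opens.map r.base).map (homOfLE (U.ι.preimage_image_eq W).ge)).le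
  have e₂ : W' ≤ (U'.ι ≫ g) ⁻¹ᵁ V := fun y hy => le ⟨y, hy, rfl⟩
  have e₃ : W' ≤ U'.ι ⁻¹ᵁ (g ⁻¹ᵁ V) := e₂
  have s1 : ((Scheme.Modules.pullback r).map ((Scheme.Modules.restrictFunctorIsoPullback U.ι).hom.app F)).app W'
      (pullSec r (show Γ(F.restrict U.ι, W) from m)) =
      resM _ e₁ (pullSec r (pullSec U.ι m)) := by
    refine (congr(($((Scheme.Modules.pullbackPushforwardAdjunction r).unit.naturality
      ((Scheme.Modules.restrictFunctorIsoPullback U.ι).hom.app F))).app W _).symm).trans ?_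
    show pullSec r (((Scheme.Modules.restrictFunctorIsoPullback U.ι).hom.app F).app W
      (show Γ(F.restrict U.ι, W) from m)) = _
    rw [restrictIso_hom_app', ← resM_pullSec]
    rfl
  have s2 : ((Scheme.Modules.pullbackComp r U.ι).hom.app F).app W'
      (resM _ e₁ (pullSec r (pullSec U.ι m))) = resM _ e₁ (pullSec (r ≫ U.ι) m) := by
    refine app_hom_of_inv ((Scheme.Modules.pullbackComp r U.ι).app F) W' ?_
    refine (app_resM ((Scheme.Modules.pullbackComp r U.ι).inv.app F) e₁ _).trans ?_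
    exact congrArg (resM _ e₁) (pullbackComp_inv_app_pullSec r U.ι F V m)
  have s3 : ∀ {a b : (U' : Scheme.{u}) ⟶ Y} (hab : a = b) (ea : W' ≤ a ⁻¹ᵁ V) (eb : W' ≤ b ⁻¹ᵁ V),
      ((Scheme.Modules.pullbackCongr hab).hom.app F).app W' (resM _ ea (pullSec a m)) =
        resM _ eb (pullSec b m) := fun hab ea eb => by subst hab; rfl
  have s4 : ((Scheme.Modules.pullbackComp U'.ι g).inv.app F).app W' (resM _ e₂ (pullSec (U'.ι ≫ g) m)) =
      resM _ e₃ (pullSec U'.ι (pullSec g m)) := by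
    refine (app_resM ((Scheme.Modules.pullbackComp U'.ι g).inv.app F) e₂ _).trans ?_
    exact congrArg (resM _ e₂) (pullbackComp_inv_app_pullSec U'.ι g F V m)
  simp only [pullOnIso, Iso.trans_hom, Iso.app_hom, Iso.symm_hom, Iso.app_inv, Functor.mapIso_hom,
    Scheme.Modules.Hom.comp_app, ConcreteCategory.comp_apply]
  exact chain_five s1 s2 (s3 (Scheme.Hom.resLE_comp_ι g h) e₁ e₂) s4
    (restrictIso_inv_app' ((Scheme.Modules.pullback g).obj F) U' W' (g ⁻¹ᵁ V) le e₃ _)

theorem image_resLE_preimage_le (g : X ⟶ Y) (U : Y.Opens) (U' : X.Opens) (h : U' ≤ g ⁻¹ᵁ U)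
    (W : (U : Scheme.{u}).Opens) :
    U'.ι ''ᵁ (g.resLE U U' h ⁻¹ᵁ W) ≤ g ⁻¹ᵁ (U.ι ''ᵁ W) := by
  rintro x ⟨y, hy, rfl⟩
  exact ⟨g.resLE U U' h y, hy, congrArg (fun t : (U' : Scheme.{u}) ⟶ Y => t y)
    (Scheme.Hom.resLE_comp_ι g h)⟩

set_option maxHeartbeats 1000000 in
/-- The map underlying `pullOn` sends a pulled back section to the pulled back section. -/
theorem pullOnNat_app_unit (g : X ⟶ Y) (U : Y.Opens) (U' : X.Opens) (h : U' ≤ g ⁻¹ᵁ U)
    (F : Y.Modules) (W : (U : Scheme.{u}).Opens) (m : Γ(F, U.ι ''ᵁ W)) :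
    ((pullOnNat g U U' h).app F).hom.app (op (g.resLE U U' h ⁻¹ᵁ W))
        (((invPushAdj (g.resLE U U' h).base).unit.app ((toAbOn Y U).obj F)).hom.app (op W) m) =
      resM ((Scheme.Modules.pullback g).obj F) (image_resLE_preimage_le g U U' h W) (pullSec g m) := by
  let r := g.resLE U U' h
  let m' : Γ(F.restrict U.ι, W) := m
  have t : (theta r (F.restrict U.ι)).hom.app (op (r ⁻¹ᵁ W))
      (((invPushAdj r.base).unit.app (Coh.toAb (F.restrict U.ι))).hom.app (op W) m') = pullSec r m' :=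
    theta_unit r (F.restrict U.ι) W m'
  have u : (pullOnIso g U U' h F).hom.app (r ⁻¹ᵁ W) (pullSec r m') =
      resM ((Scheme.Modules.pullback g).obj F) (image_resLE_preimage_le g U U' h W) (pullSec g m) :=
    pullOnIso_app_pullSec g U U' h F W (image_resLE_preimage_le g U U' h W) m
  exact (congrArg (fun z => (pullOnIso g U U' h F).hom.app (r ⁻¹ᵁ W) z) t).trans u

theorem comp_sections (f : X ⟶ Y) (g : Y ⟶ Z) (F : Z.Modules) {V : Z.Opens} {A : Y.Opens}
    {B C : X.Opens} (le₁ : A ≤ g ⁻¹ᵁ V) (le₂ : B ≤ f ⁻¹ᵁ A) (le₃ : C ≤ (f ≫ g) ⁻¹ᵁ V) (hBC : B ≤ C)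
    (m : Γ(F, V)) :
    ((Scheme.Modules.pullbackComp f g).hom.app F).app B
        (resM _ le₂ (pullSec f (resM _ le₁ (pullSec g m)))) =
      resM _ hBC (resM _ le₃ (pullSec (f ≫ g) m)) := by
  rw [app_resM, ← resM_pullSec]
  erw [app_resM]
  rw [resM_resM, resM_resM]
  refine congrArg _ ?_
  refine app_hom_of_inv ((Scheme.Modules.pullbackComp f g).app F) _ ?_
  exact pullbackComp_inv_app_pullSec f g F _ m

set_option maxHeartbeats 1000000 in
/-- Pullback of classes along a composite. -/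
theorem pullOn_comp (f : X ⟶ Y) (g : Y ⟶ Z) (U : Z.Opens) (U' : Y.Opens) (U'' : X.Opens)
    (h : U' ≤ g ⁻¹ᵁ U) (h' : U'' ≤ f ⁻¹ᵁ U') (h'' : U'' ≤ (f ≫ g) ⁻¹ᵁ U) (F : Z.Modules) (p : ℕ)
    (x : Coh.HHon Z F U p) :
    mapH ((Scheme.Modules.restrictFunctor U''.ι).map ((Scheme.Modules.pullbackComp f g).hom.app F)) p
        (pullOn f U' U'' h' _ p (pullOn g U U' h F p x)) =
      pullOn (f ≫ g) U U'' h'' F p x := by
  let r := g.resLE U U' h
  let s := f.resLE U' U'' h'
  let a := (pullOnNat g U U' h).app F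
  let b := (pullOnNat f U' U'' h').app ((Scheme.Modules.pullback g).obj F)
  let cmp := (toAbOn X U'').map ((Scheme.Modules.pullbackComp f g).hom.app F)
  refine (congrArg (mapH ((Scheme.Modules.restrictFunctor U''.ι).map
    ((Scheme.Modules.pullbackComp f g).hom.app F)) p)
      ((pullOn_eq f U' U'' h' _ p _).trans
        (congrArg (fun t => Sheaf.H.map b p (pullAb s.base _ p t)) (pullOn_eq g U U' h F p x)))).trans ?_
  refine (hmap_chain s.base r.base a b cmp p x).trans ?_
  refine Eq.trans ?_ (pullOn_eq (f ≫ g) U U'' h'' F p x).symm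
  refine hmap_pullAb_congr (r := s.base ≫ r.base) (r' := ((f ≫ g).resLE U U'' h'').base) ?_ _ _ ?_ p x
  · exact congrArg (fun t : (U'' : Scheme.{u}) ⟶ (U : Scheme.{u}) => t.base)
      (Scheme.Hom.resLE_comp_resLE f (U := U') (V := U'') (e := h') g (W := U) h)
  · intro W m
    have le₂ := image_resLE_preimage_le f U' U'' h' (r ⁻¹ᵁ W)
    have le₁ := image_resLE_preimage_le g U U' h W
    refine (chain_sections s.base r.base a b cmp W m
      (u₁ := resM ((Scheme.Modules.pullback g).obj F) le₁ (pullSec g m))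
      (u₂ := resM ((Scheme.Modules.pullback f).obj ((Scheme.Modules.pullback g).obj F)) le₂
        (pullSec f (resM ((Scheme.Modules.pullback g).obj F) le₁ (pullSec g m))))
      (u₃ := ((Scheme.Modules.pullbackComp f g).hom.app F).app (U''.ι ''ᵁ (s ⁻¹ᵁ (r ⁻¹ᵁ W)))
        (resM ((Scheme.Modules.pullback f).obj ((Scheme.Modules.pullback g).obj F)) le₂
          (pullSec f (resM ((Scheme.Modules.pullback g).obj F) le₁ (pullSec g m)))))
      (pullOnNat_app_unit g U U' h F W m)
      (pullOnNat_app_unit f U' U'' h' _ (r ⁻¹ᵁ W) _) rfl).trans ?_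
    have hW : s ⁻¹ᵁ (r ⁻¹ᵁ W) ≤ (f ≫ g).resLE U U'' h'' ⁻¹ᵁ W :=
      (congrArg (fun t : (U'' : Scheme.{u}) ⟶ (U : Scheme.{u}) => t ⁻¹ᵁ W)
        (Scheme.Hom.resLE_comp_resLE f (U := U') (V := U'') (e := h') g (W := U) h)).le
    refine (comp_sections f g F le₁ le₂ (image_resLE_preimage_le (f ≫ g) U U'' h'' W)
      ((U''.ι.opensFunctor.map (homOfLE hW)).le) m).trans ?_
    exact (congrArg (fun t => resM ((Scheme.Modules.pullback (f ≫ g)).obj F)
      ((U''.ι.opensFunctor.map (homOfLE hW)).le) t) (pullOnNat_app_unit (f ≫ g) U U'' h'' F W m)).symm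

end Groth.Agent.CohCmpLib
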