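import Groth.Agent.CohCmpLib.Affine
import Groth.Agent.CohCmpLib.Compose

/-!
# The base change maps of higher direct images
-/

set_option autoImplicit false
set_option backward.isDefEq.respectTransparency false

universe u

open CategoryTheory CategoryTheory.Limits CategoryTheory.Abelian AlgebraicGeometry Opposite
  TopologicalSpace
open CohPull CohCmp
open Groth.Agent.Coherent Groth.Agent.PicLib

namespace Groth.Agent.CohCmpLib

/-- Sections which agree locally agree. -/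
theorem eq_of_forall_exists_resM_eq {X : Scheme.{u}} {M : X.Modules} {U : X.Opens} {s t : Γ(M, U)}
    (h : ∀ y ∈ U, ∃ (W : X.Opens) (hW : W ≤ U), y ∈ W ∧ resM M hW s = resM M hW t) : s = t := by
  choose W hW hyW he using h
  exact TopCat.Sheaf.eq_of_locally_eq' (Coh.toAb M) (fun i : U => W i.1 i.2) U (fun i => homOfLE (hW i.1 i.2))
    (fun y hy => Opens.mem_iSup.2 ⟨⟨y, hy⟩, hyW y hy⟩) s t (fun i => he i.1 i.2)

/-- Maps out of an inverse image agree if they agree on pulled back sections. -/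
theorem pullback_hom_ext {X Y : Scheme.{u}} (g : X ⟶ Y) {M : Y.Modules} {N : X.Modules}
    {α β : (Scheme.Modules.pullback g).obj M ⟶ N}
    (h : ∀ (V : Y.Opens) (t : Γ(M, V)), α.app (g ⁻¹ᵁ V) (pullSec g t) = β.app (g ⁻¹ᵁ V) (pullSec g t)) :
    α = β := by
  refine ((Scheme.Modules.pullbackPushforwardAdjunction g).homEquiv M N).injective ?_
  rw [Adjunction.homEquiv_unit, Adjunction.homEquiv_unit]
  refine Scheme.Modules.hom_ext _ _ fun V => ?_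
  ext t
  exact h V t

section Bc

variable {X S S' X' : Scheme.{u}} {f : X ⟶ S} {g : S' ⟶ S} {f' : X' ⟶ S'} {g' : X' ⟶ X}
  {w : g' ≫ f = f' ≫ g} [HasInjectiveResolutions X.Modules] [HasInjectiveResolutions X'.Modules]
  {Δ : RDer.DerivedLES (Scheme.Modules.pushforward f)} {Δ' : RDer.DerivedLES (Scheme.Modules.pushforward f')}
  {E : SectCmp f Δ} {E' : SectCmp f' Δ'} (B : GenBC f g f' g' w E E')

/-- The base change map on a pulled back section. -/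
theorem bc_pullSec (p : ℕ) (F : X.Modules) (V : S.Opens) (t : Γ((Coh.Rpush f p).obj F, V)) :
    (B.bc p F).app (g ⁻¹ᵁ V) (pullSec g t) = (B.φ p F).app V t := by
  have h := ((Scheme.Modules.pullbackPushforwardAdjunction g).homEquiv ((Coh.Rpush f p).obj F)
    ((Coh.Rpush f' p).obj ((Scheme.Modules.pullback g').obj F))).apply_symm_apply (B.φ p F)
  rw [Adjunction.homEquiv_unit] at h
  exact congr(($h).app V t)

/-- The base change map on the image of a class. -/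
theorem bc_pullSec_ε (p : ℕ) (F : X.Modules) (V : S.Opens) (x : Coh.HHon X F (f ⁻¹ᵁ V) p) :
    (B.bc p F).app (g ⁻¹ᵁ V) (pullSec g (E.ε V F p x)) =
      E'.ε (g ⁻¹ᵁ V) ((Scheme.Modules.pullback g').obj F) p
        (pullOn g' (f ⁻¹ᵁ V) (f' ⁻¹ᵁ (g ⁻¹ᵁ V)) (sqLE f g f' g' w V) F p x) :=
  (bc_pullSec B p F V _).trans (B.compat V F p x)

include E in
/-- Maps out of `g^* R^p f_* F` agree if they agree on pulled back classes. -/
theorem pullback_rpush_hom_ext {T : Scheme.{u}} (h : T ⟶ S) {p : ℕ} {F : X.Modules} {N : T.Modules}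
    {α β : (Scheme.Modules.pullback h).obj ((Coh.Rpush f p).obj F) ⟶ N}
    (he : ∀ (V : S.Opens) (x : Coh.HHon X F (f ⁻¹ᵁ V) p),
      α.app (h ⁻¹ᵁ V) (pullSec h (E.ε V F p x)) = β.app (h ⁻¹ᵁ V) (pullSec h (E.ε V F p x))) :
    α = β := by
  refine pullback_hom_ext h fun V t => eq_of_forall_exists_resM_eq fun y hy => ?_
  obtain ⟨W, hWV, hyW, x, hx⟩ := ε_locally_surjective f E p F V t (h y) hy
  refine ⟨h ⁻¹ᵁ W, ((Opens.map h.base).map (homOfLE hWV)).le, hyW, ?_⟩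
  rw [← app_resM, ← app_resM, resM_pullSec _ hWV, ← hx]
  exact he W x

end Bc

section Comp

variable {X Y Z U V W : Scheme.{u}} (f : X ⟶ Y) (g : Y ⟶ Z) (ξ : X ⟶ U) (η : Y ⟶ V) (ζ : Z ⟶ W)
  (φ : U ⟶ V) (ψ : V ⟶ W) (w₁ : f ≫ η = ξ ≫ φ) (w₂ : g ≫ ζ = η ≫ ψ)
  (hw : (f ≫ g) ≫ ζ = ξ ≫ (φ ≫ ψ))
  [HasInjectiveResolutions X.Modules] [HasInjectiveResolutions Y.Modules] [HasInjectiveResolutions Z.Modules]
  {Δζ : RDer.DerivedLES (Scheme.Modules.pushforward ζ)} {Δη : RDer.DerivedLES (Scheme.Modules.pushforward η)}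
  {Δξ : RDer.DerivedLES (Scheme.Modules.pushforward ξ)}
  (Eζ : SectCmp ζ Δζ) (Eη : SectCmp η Δη) (Eξ : SectCmp ξ Δξ)
  (B₂ : GenBC ζ ψ η g w₂ Eζ Eη) (B₁ : GenBC η φ ξ f w₁ Eη Eξ)
  (B : GenBC ζ (φ ≫ ψ) ξ (f ≫ g) hw Eζ Eξ)

theorem bc_comp_horizontal (L : Z.Modules) (p : ℕ) :
    (Scheme.Modules.pullbackComp φ ψ).hom.app ((Coh.Rpush ζ p).obj L) ≫ B.bc p L =
      (Scheme.Modules.pullback φ).map (B₂.bc p L) ≫ B₁.bc p ((Scheme.Modules.pullback g).obj L) ≫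
        (Coh.Rpush ξ p).map ((Scheme.Modules.pullbackComp f g).hom.app L) := by
  have h0 : ∀ {α β : (Scheme.Modules.pullback (φ ≫ ψ)).obj ((Coh.Rpush ζ p).obj L) ⟶
      (Coh.Rpush ξ p).obj ((Scheme.Modules.pullback (f ≫ g)).obj L)}, α = β →
      (Scheme.Modules.pullbackComp φ ψ).hom.app ((Coh.Rpush ζ p).obj L) ≫ α =
      (Scheme.Modules.pullbackComp φ ψ).hom.app ((Coh.Rpush ζ p).obj L) ≫ β := fun h => by rw [h]
  rw [← cancel_epi ((Scheme.Modules.pullbackComp φ ψ).inv.app ((Coh.Rpush ζ p).obj L))]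
  rw [Iso.inv_hom_id_app_assoc]
  refine pullback_rpush_hom_ext (E := Eζ) (φ ≫ ψ) fun T x => ?_
  refine (bc_pullSec_ε B p L T x).trans ?_
  have e := pullbackComp_inv_app_pullSec φ ψ ((Coh.Rpush ζ p).obj L) T (Eζ.ε T L p x)
  simp only [Scheme.Modules.Hom.comp_app, ConcreteCategory.comp_apply]
  erw [e]
  have e2 : ((Scheme.Modules.pullback φ).map (B₂.bc p L)).app (φ ⁻¹ᵁ (ψ ⁻¹ᵁ T))
      (pullSec φ (pullSec ψ (Eζ.ε T L p x))) =
      pullSec φ (Eη.ε (ψ ⁻¹ᵁ T) _ p (pullOn g (ζ ⁻¹ᵁ T) (η ⁻¹ᵁ (ψ ⁻¹ᵁ T)) (sqLE ζ ψ η g w₂ T) L p x)) := by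
    refine (congr(($((Scheme.Modules.pullbackPushforwardAdjunction φ).unit.naturality (B₂.bc p L))).app
      (ψ ⁻¹ᵁ T) _).symm).trans ?_
    exact congrArg (pullSec φ) (bc_pullSec_ε B₂ p L T x)
  erw [e2]
  erw [bc_pullSec_ε B₁ p ((Scheme.Modules.pullback g).obj L) (ψ ⁻¹ᵁ T)]
  refine Eq.trans ?_ (Eξ.natural (φ ⁻¹ᵁ (ψ ⁻¹ᵁ T)) ((Scheme.Modules.pullbackComp f g).hom.app L) p _)
  exact congrArg (Eξ.ε (φ ⁻¹ᵁ (ψ ⁻¹ᵁ T)) _ p) (pullOn_comp f g _ _ _ _ _ _ L p x).symm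

end Comp

end Groth.Agent.CohCmpLib
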