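import Groth.Agent.CohCmpLib.Res

/-!
# Pullback of classes in degree zero
-/

set_option autoImplicit false
set_option backward.isDefEq.respectTransparency false

universe u

open CategoryTheory CategoryTheory.Limits CategoryTheory.Abelian AlgebraicGeometry Opposite
  TopologicalSpace
open CohPull CohCmp
open Groth.Agent.Coherent Groth.Agent.PicLib

namespace Groth.Agent.CohCmpLib

variable {X Y : Scheme.{u}}

/-- A section over `U` as a global section of the restriction. -/
noncomputable def restrSec (F : X.Modules) (U : X.Opens) (s : Γ(F, U)) : Γ(F.restrict U.ι, ⊤) :=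
  resM F U.ι_image_top.le s

theorem top_le_ι_preimage (U : X.Opens) : (⊤ : (U : Scheme.{u}).Opens) ≤ U.ι ⁻¹ᵁ U :=
  U.ι_preimage_self.ge

theorem restrictIso_hom_app_restrSec (F : X.Modules) (U : X.Opens) (s : Γ(F, U)) :
    ((Scheme.Modules.restrictFunctorIsoPullback U.ι).hom.app F).app ⊤ (restrSec F U s) =
      topSec U.ι F (top_le_ι_preimage U) s := by
  unfold topSec
  rw [← restrictIso_hom_app U.ι F U s, ← app_resM]
  refine congrArg _ ?_
  change resM F U.ι_image_top.le s =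
    resM F ((U.ι.opensFunctor.map (homOfLE (top_le_ι_preimage U))).le)
      (resM F (U.ι.image_preimage_le U) s)
  rw [resM_resM]

theorem restrictIso_inv_app_topSec (F : X.Modules) (U : X.Opens) (s : Γ(F, U)) :
    ((Scheme.Modules.restrictFunctorIsoPullback U.ι).inv.app F).app ⊤
      (topSec U.ι F (top_le_ι_preimage U) s) = restrSec F U s := by
  rw [← restrictIso_hom_app_restrSec]
  exact congr(($((Scheme.Modules.restrictFunctorIsoPullback U.ι).hom_inv_id_app F)).app ⊤ _)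

theorem chain_five {A₀ A₁ A₂ A₃ A₄ A₅ : Type*} {f₁ : A₀ → A₁} {f₂ : A₁ → A₂} {f₃ : A₂ → A₃}
    {f₄ : A₃ → A₄} {f₅ : A₄ → A₅} {a₀ : A₀} {a₁ : A₁} {a₂ : A₂}
    {a₃ : A₃} {a₄ : A₄} {a₅ : A₅} (h₁ : f₁ a₀ = a₁) (h₂ : f₂ a₁ = a₂)
    (h₃ : f₃ a₂ = a₃) (h₄ : f₄ a₃ = a₄) (h₅ : f₅ a₄ = a₅) :
    f₅ (f₄ (f₃ (f₂ (f₁ a₀)))) = a₅ := by
  subst h₁ h₂ h₃ h₄ h₅
  rfl

set_option maxHeartbeats 1000000 in
theorem pullOnIso_app_restrSec (g : X ⟶ Y) (U : Y.Opens) (U' : X.Opens) (h : U' ≤ g ⁻¹ᵁ U)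
    (F : Y.Modules) (e : (⊤ : (U' : Scheme.{u}).Opens) ≤ g.resLE U U' h ⁻¹ᵁ ⊤) (s : Γ(F, U)) :
    (pullOnIso g U U' h F).hom.app ⊤ (topSec (g.resLE U U' h) (F.restrict U.ι) e (restrSec F U s)) =
      restrSec ((Scheme.Modules.pullback g).obj F) U' (resM _ h (pullSec g s)) := by
  let r := g.resLE U U' h
  have s2 : ((Scheme.Modules.pullbackComp r U.ι).hom.app F).app ⊤
      (topSec r _ e (topSec U.ι F (top_le_ι_preimage U) s)) =
      topSec (r ≫ U.ι) F (e.trans ((Opens.map r.base).map (homOfLE (top_le_ι_preimage U))).le) s := by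
    rw [show topSec U.ι F (top_le_ι_preimage U) s = resM _ (top_le_ι_preimage U) (pullSec U.ι s) from rfl,
      ← pullbackComp_inv_app_topSec r U.ι F (top_le_ι_preimage U) e s]
    exact congr(($((Scheme.Modules.pullbackComp r U.ι).inv_hom_id_app F)).app ⊤ _)
  have e' : (⊤ : (U' : Scheme.{u}).Opens) ≤ (U'.ι ≫ g) ⁻¹ᵁ U :=
    (top_le_ι_preimage U').trans ((Opens.map U'.ι.base).map (homOfLE h)).le
  have s1 := (map_app_topSec r ((Scheme.Modules.restrictFunctorIsoPullback U.ι).hom.app F) e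
    (restrSec F U s)).trans (congrArg (topSec r _ e) (restrictIso_hom_app_restrSec F U s))
  simp only [pullOnIso, Iso.trans_hom, Iso.app_hom, Iso.symm_hom, Iso.app_inv, Functor.mapIso_hom,
    Scheme.Modules.Hom.comp_app, ConcreteCategory.comp_apply]
  exact chain_five s1 s2
    (pullbackCongr_app_topSec (Scheme.Hom.resLE_comp_ι g h) F _ e' s)
    (pullbackComp_inv_app_topSec U'.ι g F h (top_le_ι_preimage U') s)
    (restrictIso_inv_app_topSec ((Scheme.Modules.pullback g).obj F) U' _)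

theorem pullOn_sectH0 (g : X ⟶ Y) (U : Y.Opens) (U' : X.Opens) (h : U' ≤ g ⁻¹ᵁ U)
    (F : Y.Modules) (s : Γ(F, U)) :
    pullOn g U U' h F 0 (sectH0 F U s) =
      sectH0 ((Scheme.Modules.pullback g).obj F) U' (resM _ h (pullSec g s)) := by
  refine (Sheaf.H.equiv₀ (Coh.toAb (((Scheme.Modules.pullback g).obj F).restrict U'.ι))
    isTerminalTop).injective ?_
  refine (Sheaf.H.equiv₀_naturality isTerminalTop _ _).symm.trans ?_
  refine (congrArg _ (equiv₀_pullMod (g.resLE U U' h) (F.restrict U.ι) _)).trans ?_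
  refine Eq.trans ?_ (AddEquiv.apply_symm_apply _ _).symm
  have := pullOnIso_app_restrSec g U U' h F le_rfl s
  unfold topSec at this
  rw [show ∀ (hh : (⊤ : (U' : Scheme.{u}).Opens) ≤ g.resLE U U' h ⁻¹ᵁ ⊤) (t : Γ((Scheme.Modules.pullback (g.resLE U U' h)).obj (F.restrict U.ι), g.resLE U U' h ⁻¹ᵁ ⊤)),
    resM ((Scheme.Modules.pullback (g.resLE U U' h)).obj (F.restrict U.ι)) hh t = t from
      fun hh t => resM_refl _ t] at this
  refine Eq.trans ?_ this
  refine congrArg (fun z => (pullOnIso g U U' h F).hom.app ⊤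
    (((Scheme.Modules.pullbackPushforwardAdjunction (g.resLE U U' h)).unit.app (F.restrict U.ι)).app ⊤ z)) ?_
  exact (Sheaf.H.equiv₀ (Coh.toAb (F.restrict U.ι)) isTerminalTop).apply_symm_apply _

theorem pullbackId_hom_app_pullSec (F : X.Modules) (U : X.Opens) (s : Γ(F, U)) :
    ((Scheme.Modules.pullbackId X).hom.app F).app U (pullSec (𝟙 X) s) = s := by
  have h := unit_conjugateEquiv .id (Scheme.Modules.pullbackPushforwardAdjunction (𝟙 X))
    (Scheme.Modules.pullbackId X).hom F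
  rw [Scheme.Modules.conjugateEquiv_pullbackId_hom] at h
  exact congr($(h).app U s).symm

theorem resLE_sectH0 (F : X.Modules) {U U' : X.Opens} (h : U' ≤ U) (s : Γ(F, U)) :
    resLE F h 0 (sectH0 F U s) = sectH0 F U' (resM F h s) := by
  refine (resLE_apply F h 0 _).trans ?_
  refine (congrArg (mapH ((Scheme.Modules.restrictFunctor U'.ι).map
    ((Scheme.Modules.pullbackId X).hom.app F)) 0)
      (pullOn_sectH0 (𝟙 X) U U' (by rwa [Scheme.Hom.id_preimage]) F s)).trans ?_
  refine (mapH_sectH0 ((Scheme.Modules.pullbackId X).hom.app F) _).trans ?_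
  refine congrArg _ ?_
  refine (app_resM ((Scheme.Modules.pullbackId X).hom.app F) _ _).trans ?_
  exact congrArg _ (pullbackId_hom_app_pullSec F U s)

end Groth.Agent.CohCmpLib
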