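import Groth.Agent.CohCmpLib.Compose
import Groth.Agent.CohCmpLib.Degree0

/-!
# Restriction of pulled back classes
-/

set_option autoImplicit false
set_option backward.isDefEq.respectTransparency false

universe u

open CategoryTheory CategoryTheory.Limits CategoryTheory.Abelian AlgebraicGeometry Opposite
  TopologicalSpace
open CohPull CohCmp
open Groth.Agent.Coherent Groth.Agent.PicLib

namespace Groth.Agent.CohCmpLib

variable {X Y : Scheme.{u}}

set_option maxHeartbeats 1000000 in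
/-- Pulling back to a smaller open is pulling back and restricting. -/
theorem resLE_pullOn (g : X ⟶ Y) (U : Y.Opens) {U' U'' : X.Opens} (h : U' ≤ g ⁻¹ᵁ U) (le : U'' ≤ U')
    (F : Y.Modules) (p : ℕ) (x : Coh.HHon Y F U p) :
    resLE ((Scheme.Modules.pullback g).obj F) le p (pullOn g U U' h F p x) =
      pullOn g U U'' (le.trans h) F p x := by
  let P := (Scheme.Modules.pullback g).obj F
  have h' : U'' ≤ (𝟙 X : X ⟶ X) ⁻¹ᵁ U' := by rwa [Scheme.Hom.id_preimage]
  let r := g.resLE U U' h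
  let s := (𝟙 X : X ⟶ X).resLE U' U'' h'
  let a := (pullOnNat g U U' h).app F
  let b := (pullOnNat (𝟙 X) U' U'' h').app P
  let cmp := (toAbOn X U'').map ((Scheme.Modules.pullbackId X).hom.app P)
  refine (resLE_apply P le p _).trans ?_
  refine (congrArg (mapH ((Scheme.Modules.restrictFunctor U''.ι).map
    ((Scheme.Modules.pullbackId X).hom.app P)) p)
      ((pullOn_eq (𝟙 X) U' U'' h' P p _).trans
        (congrArg (fun t => Sheaf.H.map b p (pullAb s.base _ p t)) (pullOn_eq g U U' h F p x)))).trans ?_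
  refine (hmap_chain s.base r.base a b cmp p x).trans ?_
  refine Eq.trans ?_ (pullOn_eq g U U'' (le.trans h) F p x).symm
  have es : s ≫ r = g.resLE U U'' (le.trans h) := by
    rw [← cancel_mono U.ι, Category.assoc, Scheme.Hom.resLE_comp_ι, ← Category.assoc,
      Scheme.Hom.resLE_comp_ι, Category.comp_id, Scheme.Hom.resLE_comp_ι]
  refine hmap_pullAb_congr (r := s.base ≫ r.base) (r' := (g.resLE U U'' (le.trans h)).base)
    (congrArg (fun t : (U'' : Scheme.{u}) ⟶ (U : Scheme.{u}) => t.base) es) _ _ ?_ p x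
  intro W m
  have le₂ := image_resLE_preimage_le (𝟙 X) U' U'' h' (r ⁻¹ᵁ W)
  have le₁ := image_resLE_preimage_le g U U' h W
  have le₃ := image_resLE_preimage_le g U U'' (le.trans h) W
  refine (chain_sections s.base r.base a b cmp W m
    (u₁ := resM P le₁ (pullSec g m))
    (u₂ := resM ((Scheme.Modules.pullback (𝟙 X)).obj P) le₂
      (pullSec (𝟙 X) (resM P le₁ (pullSec g m))))
    (u₃ := ((Scheme.Modules.pullbackId X).hom.app P).app (U''.ι ''ᵁ (s ⁻¹ᵁ (r ⁻¹ᵁ W)))
      (resM ((Scheme.Modules.pullback (𝟙 X)).obj P) le₂ (pullSec (𝟙 X) (resM P le₁ (pullSec g m)))))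
    (pullOnNat_app_unit g U U' h F W m)
    (pullOnNat_app_unit (𝟙 X) U' U'' h' P (r ⁻¹ᵁ W) _) rfl).trans ?_
  have hW : s ⁻¹ᵁ (r ⁻¹ᵁ W) ≤ g.resLE U U'' (le.trans h) ⁻¹ᵁ W :=
    (congrArg (fun t : (U'' : Scheme.{u}) ⟶ (U : Scheme.{u}) => t ⁻¹ᵁ W) es).le
  refine Eq.trans ?_ (congrArg (fun t => resM P ((U''.ι.opensFunctor.map (homOfLE hW)).le) t)
    (pullOnNat_app_unit g U U'' (le.trans h) F W m)).symm
  refine (app_resM ((Scheme.Modules.pullbackId X).hom.app P) le₂ _).trans ?_
  refine (congrArg (resM P le₂) (pullbackId_hom_app_pullSec P _ (resM P le₁ (pullSec g m)))).trans ?_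
  refine (resM_resM P le₁ le₂ _).trans ?_
  exact (resM_resM P le₃ _ _).symm

end Groth.Agent.CohCmpLib
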