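import Groth.Agent.CohCmpLib.Degree0
import Groth.Agent.Coherent.HigherQcoh
import Groth.Agent.SpecSeq.HZero

/-!
# The edge map `H^p(Y, f_* G) → H^p(X, G)`
-/

set_option autoImplicit false
set_option backward.isDefEq.respectTransparency false

universe u

open CategoryTheory CategoryTheory.Limits CategoryTheory.Abelian AlgebraicGeometry Opposite
  TopologicalSpace
open CohPull CohCmp
open Groth.Agent.Coherent

namespace Groth.Agent.CohCmpLib

variable {X Y : Scheme.{u}} (f : X ⟶ Y)

/-- The map of abelian sheaves underlying the edge map. -/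
noncomputable def edgeNat :
    (Scheme.Modules.pushforward f ⋙ SheafOfModules.toSheaf Y.ringCatSheaf) ⋙ inv f.base ⟶
      SheafOfModules.toSheaf X.ringCatSheaf :=
  Functor.whiskerLeft (Scheme.Modules.pushforward f) (thetaNat f) ≫
    Functor.whiskerRight (Scheme.Modules.pullbackPushforwardAdjunction f).counit
      (SheafOfModules.toSheaf X.ringCatSheaf) ≫ (Functor.leftUnitor _).hom

theorem pushEdge_apply (G : X.Modules) (p : ℕ)
    (x : Coh.HH Y ((Scheme.Modules.pushforward f).obj G) p) :
    pushEdge f G p x = mapH ((Scheme.Modules.pullbackPushforwardAdjunction f).counit.app G) p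
      (pullMod f ((Scheme.Modules.pushforward f).obj G) p x) :=
  rfl

theorem pushEdge_eq (G : X.Modules) (p : ℕ)
    (x : Coh.HH Y ((Scheme.Modules.pushforward f).obj G) p) :
    pushEdge f G p x = Sheaf.H.map ((edgeNat f).app G) p (pullAb f.base _ p x) :=
  hmap_comp_pullAb f.base (theta f ((Scheme.Modules.pushforward f).obj G))
    ((SheafOfModules.toSheaf X.ringCatSheaf).map
      ((Scheme.Modules.pullbackPushforwardAdjunction f).counit.app G)) _
    ((congrArg (_ ≫ ·) (Category.comp_id _))) p x

theorem pushEdge_natural {G G' : X.Modules} (ψ : G ⟶ G') (p : ℕ)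
    (x : Coh.HH Y ((Scheme.Modules.pushforward f).obj G) p) :
    pushEdge f G' p (mapH ((Scheme.Modules.pushforward f).map ψ) p x) =
      mapH ψ p (pushEdge f G p x) := by
  rw [pushEdge_eq, pushEdge_eq]
  exact hmap_pullAb_natural f.base
    ((SheafOfModules.toSheaf Y.ringCatSheaf).map ((Scheme.Modules.pushforward f).map ψ))
    ((edgeNat f).app G) ((edgeNat f).app G') ((SheafOfModules.toSheaf X.ringCatSheaf).map ψ)
    ((edgeNat f).naturality ψ) p x

theorem pushEdge_delta {S : ShortComplex X.Modules}
    (hS : (S.map (toAbFunctor X)).ShortExact)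
    (hP : ((S.map (Scheme.Modules.pushforward f)).map (toAbFunctor Y)).ShortExact) (p : ℕ)
    (x : Coh.HH Y ((Scheme.Modules.pushforward f).obj S.X₃) p) :
    pushEdge f S.X₁ (p + 1) (show Coh.HH Y ((Scheme.Modules.pushforward f).obj S.X₁) (p + 1) from
        Ext.comp x hP.extClass rfl) =
      (show Coh.HH X S.X₁ (p + 1) from (pushEdge f S.X₃ p x).comp hS.extClass rfl) :=
  delta_of_eq f.base hP hS
    (ShortComplex.homMk ((edgeNat f).app S.X₁) ((edgeNat f).app S.X₂) ((edgeNat f).app S.X₃)
      ((edgeNat f).naturality S.f).symm ((edgeNat f).naturality S.g).symm) p (fun z => pushEdge f S.X₃ p z)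
    (fun z => pushEdge f S.X₁ (p + 1) z)
    (fun z => pushEdge_eq f S.X₃ p z) (fun z => pushEdge_eq f S.X₁ (p + 1) z) x

theorem bijective_pushEdge_zero (G : X.Modules) : Function.Bijective (pushEdge f G 0) := by
  have he : ∀ x, Sheaf.H.equiv₀ (Coh.toAb G) isTerminalTop (pushEdge f G 0 x) =
      Sheaf.H.equiv₀ (Coh.toAb ((Scheme.Modules.pushforward f).obj G)) isTerminalTop x := fun x => by
    refine (Sheaf.H.equiv₀_naturality isTerminalTop _ _).symm.trans ?_
    refine (congrArg _ (equiv₀_pullMod f ((Scheme.Modules.pushforward f).obj G) x)).trans ?_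
    exact congr(($((Scheme.Modules.pullbackPushforwardAdjunction f).right_triangle_components G)).app
      ⊤ _)
  have h : ⇑(pushEdge f G 0) = ⇑(Sheaf.H.equiv₀ (Coh.toAb G) isTerminalTop).symm ∘
      ⇑(Sheaf.H.equiv₀ (Coh.toAb ((Scheme.Modules.pushforward f).obj G)) isTerminalTop) :=
    funext fun x => ((Sheaf.H.equiv₀ (Coh.toAb G) isTerminalTop).symm_apply_apply _).symm.trans
      (congrArg _ (he x))
  rw [h]
  exact (AddEquiv.bijective _).comp (AddEquiv.bijective _)

theorem subsingleton_HH_push_of_injective (I : X.Modules) [Injective I] (p : ℕ) :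
    Subsingleton (Coh.HH Y ((Scheme.Modules.pushforward f).obj I) (p + 1)) := by
  have h := isFlasque_toAb_of_injective I
  have hp : TopCat.Sheaf.IsFlasque (X := Y.toTopCat)
      (Coh.toAb ((Scheme.Modules.pushforward f).obj I)) :=
    { epi := fun i => h.epi ((Opens.map f.base).map i.unop).op }
  have : Subsingleton (Sheaf.H' (Coh.toAb ((Scheme.Modules.pushforward f).obj I)) (p + 1) (⊤ : Y.Opens)) :=
    subsingleton_H'_of_isFlasque (X := Y.toTopCat) _ ⊤ p
  exact (HHTopEquiv ((Scheme.Modules.pushforward f).obj I) (p + 1)).subsingleton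

theorem subsingleton_HH_of_injective (I : X.Modules) [Injective I] (p : ℕ) :
    Subsingleton (Coh.HH X I (p + 1)) := by
  have h := isFlasque_toAb_of_injective I
  have : Subsingleton (Sheaf.H' (Coh.toAb I) (p + 1) (⊤ : X.Opens)) :=
    subsingleton_H'_of_isFlasque (X := X.toTopCat) _ ⊤ p
  exact (HHTopEquiv I (p + 1)).subsingleton

variable [HasInjectiveResolutions X.Modules]

theorem shortExact_push_of_isZero {S : ShortComplex X.Modules} (hS : S.ShortExact)
    (h : IsZero ((Coh.Rpush f 1).obj S.X₁)) : (S.map (Scheme.Modules.pushforward f)).ShortExact := by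
  have : PreservesLimitsOfSize.{0, 0} (Scheme.Modules.pushforward f) :=
    (Scheme.Modules.pullbackPushforwardAdjunction f).rightAdjoint_preservesLimits
  have : EnoughInjectives X.Modules := SpecSeq.enoughInjectives_of_hasInjectiveResolutions _
  have h' := (ShortComplex.exact_and_mono_f_iff_f_is_kernel
    (S.map (Scheme.Modules.pushforward f))).2
    ⟨KernelFork.mapIsLimit _ hS.fIsKernel (Scheme.Modules.pushforward f)⟩
  exact { exact := h'.1, mono_f := h'.2
          epi_g := SpecSeq.epi_map_of_isZero_rightDerived_one hS h }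

theorem bijective_pushEdge : ∀ (p : ℕ) (G : X.Modules),
    (∀ q : ℕ, 0 < q → IsZero ((Coh.Rpush f q).obj G)) → Function.Bijective (pushEdge f G p) := by
  intro p
  induction p with
  | zero => exact fun G _ => bijective_pushEdge_zero f G
  | succ p ih =>
    intro G hG
    obtain ⟨S, hS, rfl, hI⟩ := exists_injective_shortExact G
    have hP := shortExact_push_of_isZero f hS (hG 1 one_pos)
    have hA := toAb_shortExact hS
    have hA' := toAb_shortExact hP
    have hI0 : ∀ q : ℕ, 0 < q → IsZero ((Coh.Rpush f q).obj S.X₂) := fun q hq => by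
      obtain ⟨k, rfl⟩ := Nat.exists_eq_succ_of_ne_zero hq.ne'
      exact (Scheme.Modules.pushforward f).isZero_rightDerived_obj_injective_succ k S.X₂
    have hQ0 : ∀ q : ℕ, 0 < q → IsZero ((Coh.Rpush f q).obj S.X₃) := fun q hq => by
      obtain ⟨k, rfl⟩ := Nat.exists_eq_succ_of_ne_zero hq.ne'
      obtain ⟨e⟩ := SpecSeq.isZero_rightDerived_shift (Scheme.Modules.pushforward f) hS k
      exact (hG (k + 2) (by omega)).of_iso e.symm
    have h₂ := ih S.X₂ hI0
    have h₃ := ih S.X₃ hQ0
    constructor
    · refine (injective_iff_map_eq_zero _).2 fun x hx => ?_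
      obtain ⟨y, rfl⟩ := Ext.covariant_sequence_exact₁ _ hA' x
        (@Subsingleton.elim _ (subsingleton_HH_push_of_injective f S.X₂ p) _ _) rfl
      obtain ⟨w, hw⟩ := Ext.covariant_sequence_exact₃ _ hA (pushEdge f S.X₃ p y) rfl
        ((pushEdge_delta f hA hA' p y).symm.trans hx)
      obtain ⟨v, rfl⟩ := h₂.2 w
      have : y = mapH ((Scheme.Modules.pushforward f).map S.g) p v :=
        h₃.1 (hw.symm.trans (pushEdge_natural f S.g p v).symm)
      subst this
      exact (Ext.comp_assoc_of_second_deg_zero _ _ _ _).trans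
        ((congrArg (fun t => Ext.comp v t rfl) hA'.comp_extClass).trans (Ext.comp_zero _ _ _ _ _))
    · intro z
      obtain ⟨w, hw⟩ := Ext.covariant_sequence_exact₁ _ hA z
        (@Subsingleton.elim _ (subsingleton_HH_of_injective S.X₂ p) _ _) rfl
      obtain ⟨y, rfl⟩ := h₃.2 w
      exact ⟨_, (pushEdge_delta f hA hA' p y).trans hw⟩

end Groth.Agent.CohCmpLib

namespace Groth.Agent.CohCmpLib

variable {X Y : Scheme.{u}} (f : X ⟶ Y) [HasInjectiveResolutions X.Modules]

theorem isZero_rpush_of_isAffineHom [IsAffineHom f] (F : X.Modules) [Coh.IsQCoh F] (q : ℕ)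
    (hq : 0 < q) : IsZero ((Coh.Rpush f q).obj F) := by
  have h : IsZero ((toAbFunctor Y).obj ((Coh.Rpush f q).obj F)) :=
    (isZero_rpushAb_of_isAffineHom f F q hq).of_iso (toAbRpushIso f F q)
  have : (toAbFunctor Y).Faithful :=
    { map_injective := fun {_ _} _ _ e => (SheafOfModules.toSheaf Y.ringCatSheaf).map_injective e }
  rw [IsZero.iff_id_eq_zero] at h ⊢
  refine (toAbFunctor Y).map_injective ?_
  rw [CategoryTheory.Functor.map_id, Functor.map_zero, h]

theorem bijective_pushEdge_of_isAffineHom [IsAffineHom f] (F : X.Modules) [Coh.IsQCoh F] (p : ℕ) :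
    Function.Bijective (pushEdge f F p) :=
  bijective_pushEdge f p F fun q hq => isZero_rpush_of_isAffineHom f F q hq

end Groth.Agent.CohCmpLib
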