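import Groth.Agent.CohCmpLib.OpenClass

/-!
# The comparison maps over an affine base are bijective
-/

set_option autoImplicit false
set_option backward.isDefEq.respectTransparency false

universe u

open CategoryTheory CategoryTheory.Limits CategoryTheory.Abelian AlgebraicGeometry Opposite
  TopologicalSpace
open CohPull CohCmp
open Groth.Agent.Coherent

namespace Groth.Agent.CohCmpLib

variable {X S : Scheme.{u}} (f : X ⟶ S) [HasInjectiveResolutions X.Modules]
  {Δ : RDer.DerivedLES (Scheme.Modules.pushforward f)} (E : SectCmp f Δ) (M : X.Modules) (q : ℕ)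

/-- The comparison as a map of presheaves. -/
noncomputable def cmpPsh : cohPsh f M q ⟶ (Coh.toAb ((Coh.Rpush f q).obj M)).obj where
  app V := AddCommGrpCat.ofHom ((E.ε V.unop M q).comp (onClass (f ⁻¹ᵁ V.unop) M q))
  naturality V W i := by
    ext x
    have hWV : W.unop ≤ V.unop := leOfHom i.unop
    refine (congrArg (E.ε W.unop M q)
      (onClass_res (f.preimage_mono hWV) M q x).symm).trans ?_
    exact (ε_res f E hWV M q _).symm

theorem cmpPsh_app (V : S.Opens) (x : (cohPsh f M q).obj (op V)) :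
    (cmpPsh f E M q).app (op V) x = E.ε V M q (onClass (f ⁻¹ᵁ V) M q x) :=
  rfl

instance isLocallyInjective_cmpPsh :
    Presheaf.IsLocallyInjective (Opens.grothendieckTopology S) (cmpPsh f E M q) where
  equalizerSieve_mem {V} x y h y₀ hy₀ := by
    have h0 : E.ε V.unop M q (onClass (f ⁻¹ᵁ V.unop) M q (x - y)) = 0 := by
      refine (cmpPsh_app f E M q V.unop (x - y)).symm.trans ?_
      rw [map_sub]
      exact sub_eq_zero.2 h
    obtain ⟨W, hWV, hyW, hW⟩ := ε_locally_injective f E q M V.unop _ h0 y₀ hy₀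
    refine ⟨W, homOfLE hWV, ?_, hyW⟩
    have h1 : (cohPsh f M q).map (homOfLE hWV).op (x - y) = 0 := by
      refine (bijective_onClass (f ⁻¹ᵁ W) q M).1 ?_
      refine ((onClass_res (f.preimage_mono hWV) M q (x - y)).symm.trans hW).trans (map_zero _).symm
    rw [map_sub] at h1
    exact sub_eq_zero.1 h1

instance isLocallySurjective_cmpPsh :
    Presheaf.IsLocallySurjective (Opens.grothendieckTopology S) (cmpPsh f E M q) where
  imageSieve_mem {V} s y₀ hy₀ := by
    obtain ⟨W, hWV, hyW, x, hx⟩ := ε_locally_surjective f E q M V s y₀ hy₀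
    obtain ⟨t, rfl⟩ := (bijective_onClass (f ⁻¹ᵁ W) q M).2 x
    exact ⟨W, homOfLE hWV, ⟨t, hx⟩, hyW⟩

/-- The sheafified comparison. -/
noncomputable def cmpSh :
    (presheafToSheaf (Opens.grothendieckTopology S) AddCommGrpCat.{u}).obj (cohPsh f M q) ⟶
      Coh.toAb ((Coh.Rpush f q).obj M) :=
  ((sheafificationAdjunction (Opens.grothendieckTopology S) AddCommGrpCat.{u}).homEquiv _ _).symm
    (cmpPsh f E M q)

instance isIso_cmpSh : IsIso (cmpSh f E M q) := by
  have : IsIso ((presheafToSheaf (Opens.grothendieckTopology S) AddCommGrpCat.{u}).map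
      (cmpPsh f E M q)) := by
    rw [← GrothendieckTopology.W_iff, GrothendieckTopology.W_iff_isLocallyBijective]
    exact ⟨inferInstance, inferInstance⟩
  rw [cmpSh, Adjunction.homEquiv_counit]
  infer_instance

theorem fromPsh_cmpSh (V : S.Opens) (x : (cohPsh f M q).obj (op V)) :
    fromPsh (N := (Coh.Rpush f q).obj M) (cmpSh f E M q) V x =
      E.ε V M q (onClass (f ⁻¹ᵁ V) M q x) := by
  have h := ((sheafificationAdjunction (Opens.grothendieckTopology S)
    AddCommGrpCat.{u}).homEquiv (cohPsh f M q)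
      (Coh.toAb ((Coh.Rpush f q).obj M))).apply_symm_apply (cmpPsh f E M q)
  rw [Adjunction.homEquiv_unit] at h
  exact ConcreteCategory.congr_hom (congrArg (fun t => t.app (op V)) h) x

variable [IsAffine S] [CompactSpace X] [QuasiSeparatedSpace X] [Coh.IsQCoh M]

theorem bijective_ε_top : Function.Bijective (E.ε ⊤ M q) := by
  have h := fromPsh_bijective (P := cohPsh f M q) (N := (Coh.Rpush f q).obj M) (cmpSh f E M q) ⊤
    (localizing_cohPsh f M q).bijective_toSheafify
  rw [show ⇑(fromPsh (N := (Coh.Rpush f q).obj M) (cmpSh f E M q) ⊤) =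
    ⇑(E.ε ⊤ M q) ∘ ⇑(onClass (f ⁻¹ᵁ ⊤) M q) from funext (fromPsh_cmpSh f E M q ⊤)] at h
  exact (Function.Bijective.of_comp_iff _ (bijective_onClass (f ⁻¹ᵁ ⊤) q M)).1 h

end Groth.Agent.CohCmpLib
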