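import Groth.Agent.Coherent.ModExt
import Groth.Agent.Coherent.SchemeCoh
import Groth.Agent.Coherent.PullUnit
import Groth.Prelude.Def_CohCmp

/-!
# Connecting maps of cohomology and pullback along morphisms
-/

set_option autoImplicit false
set_option backward.isDefEq.respectTransparency false

universe u

open CategoryTheory CategoryTheory.Limits CategoryTheory.Abelian AlgebraicGeometry Opposite
  TopologicalSpace
open CohPull CohCmp
open Groth.Agent.Coherent

namespace Groth.Agent.CohCmpLib

section Top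

variable {X X' : TopCat.{u}}

/-- Pullback of classes, followed by a morphism of short exact sequences, commutes with the
connecting maps. -/
theorem pullAb_delta (r : X' ⟶ X) {S : ShortComplex (CohTop.Ab X)} (hS : S.ShortExact)
    {T : ShortComplex (CohTop.Ab X')} (hT : T.ShortExact) (η : S.map (inv r) ⟶ T) (p : ℕ)
    (x : Sheaf.H S.X₃ p) :
    (show Sheaf.H T.X₁ (p + 1) from
        (Sheaf.H.map η.τ₃ p (pullAb r S.X₃ p x)).comp hT.extClass rfl) =
      Sheaf.H.map η.τ₁ (p + 1) (pullAb r S.X₁ (p + 1) (x.comp hS.extClass rfl)) := by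
  have hS' : (S.map (inv r)).ShortExact := hS.map_of_exact _
  simp only [pullAb, AddMonoidHom.coe_comp, Function.comp_apply, Functor.mapExtAddHom_apply,
    Ext.bilinearComp_apply_apply, Sheaf.H.map_apply]
  rw [Ext.mapExactFunctor_comp, Ext.mapExactFunctor_extClass]
  simp only [Ext.comp_assoc_of_second_deg_zero, Ext.comp_assoc_of_third_deg_zero]
  rw [ShortComplex.ShortExact.extClass_naturality hS' hT η]
  refine (Ext.comp_assoc _ _ _ _ (rfl : p + 1 = p + 1) (by omega)).trans (congrArg (fun t => Ext.comp _ t (zero_add (p + 1))) ?_)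
  exact Ext.comp_assoc_of_second_deg_zero ..

/-- Pullback of classes is natural. -/
theorem pullAb_natural (r : X' ⟶ X) {M N : CohTop.Ab X} (φ : M ⟶ N) (p : ℕ) (x : Sheaf.H M p) :
    pullAb r N p (Sheaf.H.map φ p x) = Sheaf.H.map ((inv r).map φ) p (pullAb r M p x) := by
  simp only [pullAb, AddMonoidHom.coe_comp, Function.comp_apply, Functor.mapExtAddHom_apply,
    Ext.bilinearComp_apply_apply, Sheaf.H.map_apply]
  rw [Ext.mapExactFunctor_comp, Ext.mapExactFunctor_mk₀, Ext.comp_assoc_of_third_deg_zero]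

theorem hmap_pullAb_natural (r : X' ⟶ X) {M N : CohTop.Ab X} (φ : M ⟶ N) {M' N' : CohTop.Ab X'}
    (a : (inv r).obj M ⟶ M') (b : (inv r).obj N ⟶ N') (ψ : M' ⟶ N')
    (h : (inv r).map φ ≫ b = a ≫ ψ) (p : ℕ) (x : Sheaf.H M p) :
    Sheaf.H.map b p (pullAb r N p (Sheaf.H.map φ p x)) =
      Sheaf.H.map ψ p (Sheaf.H.map a p (pullAb r M p x)) := by
  rw [pullAb_natural, ← Sheaf.H.map_comp_apply, ← Sheaf.H.map_comp_apply, h]

theorem hmap_comp_pullAb (r : X' ⟶ X) {M : CohTop.Ab X} {M' N' : CohTop.Ab X'}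
    (a : (inv r).obj M ⟶ M') (ψ : M' ⟶ N') (c : (inv r).obj M ⟶ N') (h : c = a ≫ ψ) (p : ℕ)
    (x : Sheaf.H M p) :
    Sheaf.H.map ψ p (Sheaf.H.map a p (pullAb r M p x)) = Sheaf.H.map c p (pullAb r M p x) := by
  rw [h, Sheaf.H.map_comp_apply]

/-- Connecting maps are natural. -/
theorem extClass_natural {S T : ShortComplex (CohTop.Ab X)} (hS : S.ShortExact) (hT : T.ShortExact)
    (η : S ⟶ T) (p : ℕ) (x : Sheaf.H S.X₃ p) :
    (show Sheaf.H T.X₁ (p + 1) from (Sheaf.H.map η.τ₃ p x).comp hT.extClass rfl) =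
      Sheaf.H.map η.τ₁ (p + 1) (x.comp hS.extClass rfl) := by
  simp only [Sheaf.H.map_apply, Ext.comp_assoc_of_second_deg_zero, Ext.comp_assoc_of_third_deg_zero]
  rw [ShortComplex.ShortExact.extClass_naturality hS hT η]

end Top

variable {X Y : Scheme.{u}}

section Open

variable (U : X.Opens)

instance preservesFiniteLimits_toAbOn : PreservesFiniteLimits (toAbOn X U) := by
  have : PreservesFiniteLimits (Scheme.Modules.restrictFunctor U.ι) :=
    (Scheme.Modules.restrictFunctor U.ι).preservesFiniteLimits_of_preservesHomology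
  have : PreservesFiniteLimits (toAbFunctor (U : Scheme.{u})) := inferInstance
  exact comp_preservesFiniteLimits (Scheme.Modules.restrictFunctor U.ι) (toAbFunctor (U : Scheme.{u}))

instance preservesFiniteColimits_toAbOn : PreservesFiniteColimits (toAbOn X U) := by
  have := preservesFiniteColimits_toAbFunctor (U : Scheme.{u})
  have : PreservesFiniteColimits (Scheme.Modules.restrictFunctor U.ι) :=
    have : PreservesColimitsOfSize.{0, 0} (Scheme.Modules.restrictFunctor U.ι) :=
      (Scheme.Modules.restrictAdjunction U.ι).leftAdjoint_preservesColimits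
    inferInstance
  exact comp_preservesFiniteColimits (Scheme.Modules.restrictFunctor U.ι) (toAbFunctor (U : Scheme.{u}))

theorem shortExact_toAbOn {S : ShortComplex X.Modules} (hS : S.ShortExact) :
    (S.map (toAbOn X U)).ShortExact :=
  hS.map_of_exact _

theorem subsingleton_HHon_of_injective (I : X.Modules) [Injective I] (p : ℕ) :
    Subsingleton (Coh.HHon X I U (p + 1)) := by
  have := isFlasque_toAb_of_injective I
  have : Subsingleton (Sheaf.H' (Coh.toAb I) (p + 1) U) :=
    subsingleton_H'_of_isFlasque (X := X.toTopCat) (Coh.toAb I) U p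
  exact (HHonEquiv I U (p + 1)).subsingleton

/-- An embedding into an injective module. -/
theorem exists_injective_shortExact (F : X.Modules) :
    ∃ (S : ShortComplex X.Modules) (_ : S.ShortExact), S.X₁ = F ∧ Injective S.X₂ :=
  ⟨_, ShortComplex.ShortExact.mk (S := ShortComplex.mk (Injective.ι F) (cokernel.π _)
      (cokernel.condition _))
    (ShortComplex.exact_of_g_is_cokernel _ (cokernelIsCokernel _)), rfl,
    inferInstanceAs (Injective (Injective.under F))⟩

theorem exists_extδ_eq {S : ShortComplex X.Modules} (hA : (S.map (toAbOn X U)).ShortExact) {p : ℕ}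
    (h : Subsingleton (Coh.HHon X S.X₂ U (p + 1))) (z : Coh.HHon X S.X₁ U (p + 1)) :
    ∃ y : Coh.HHon X S.X₃ U p, extδ hA p y = z :=
  Ext.covariant_sequence_exact₁ _ hA z (@Subsingleton.elim _ h _ _) rfl

theorem exists_mapH_eq {S : ShortComplex X.Modules} (hA : (S.map (toAbOn X U)).ShortExact) {p : ℕ}
    (y : Coh.HHon X S.X₃ U p) (h : extδ hA p y = 0) :
    ∃ w : Coh.HHon X S.X₂ U p, mapH ((Scheme.Modules.restrictFunctor U.ι).map S.g) p w = y :=
  Ext.covariant_sequence_exact₃ _ hA y rfl h

theorem extδ_mapH {S : ShortComplex X.Modules} (hA : (S.map (toAbOn X U)).ShortExact) {p : ℕ}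
    (w : Coh.HHon X S.X₂ U p) :
    extδ hA p (mapH ((Scheme.Modules.restrictFunctor U.ι).map S.g) p w) = 0 := by
  show Ext.comp (Sheaf.H.map _ p w) hA.extClass rfl = 0
  erw [Sheaf.H.map_apply, Ext.comp_assoc_of_second_deg_zero, hA.comp_extClass, Ext.comp_zero]

/-- Two families of maps out of cohomology over `U` which commute with connecting maps and agree in
degree zero are equal. -/
theorem ext_delta (T : ℕ → X.Modules → Type u) [∀ p F, AddCommGroup (T p F)]
    (a b : ∀ p F, Coh.HHon X F U p →+ T p F)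
    (δT : ∀ (S : ShortComplex X.Modules) (_ : S.ShortExact) (p : ℕ), T p S.X₃ → T (p + 1) S.X₁)
    (ha : ∀ (S : ShortComplex X.Modules) (hS : S.ShortExact) (hA : (S.map (toAbOn X U)).ShortExact)
      (p : ℕ) (x : Coh.HHon X S.X₃ U p), a (p + 1) S.X₁ (extδ hA p x) = δT S hS p (a p S.X₃ x))
    (hb : ∀ (S : ShortComplex X.Modules) (hS : S.ShortExact) (hA : (S.map (toAbOn X U)).ShortExact)
      (p : ℕ) (x : Coh.HHon X S.X₃ U p), b (p + 1) S.X₁ (extδ hA p x) = δT S hS p (b p S.X₃ x))
    (h0 : ∀ F x, a 0 F x = b 0 F x) :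
    ∀ p F x, a p F x = b p F x := by
  intro p
  induction p with
  | zero => exact h0
  | succ p ih =>
    intro F x
    obtain ⟨S, hS, rfl, hI⟩ := exists_injective_shortExact F
    obtain ⟨y, rfl⟩ := exists_extδ_eq U (shortExact_toAbOn U hS)
      (subsingleton_HHon_of_injective U S.X₂ p) x
    rw [ha S hS, hb S hS, ih]

end Open

section Degree0

theorem HHon_ext_zero {U : X.Opens} {F : X.Modules} (x : Coh.HHon X F U 0) :
    ∃ s : F.presheaf.obj (op U), sectH0 F U s = x :=
  (sectH0 F U).surjective x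

theorem mapH_sectH0 {U : X.Opens} {F G : X.Modules} (ψ : F ⟶ G) (s : F.presheaf.obj (op U)) :
    mapH ((Scheme.Modules.restrictFunctor U.ι).map ψ) 0 (sectH0 F U s) = sectH0 G U (ψ.app U s) := by
  refine (Sheaf.H.equiv₀_symm_naturality isTerminalTop _ _).trans ?_
  refine congrArg _ ?_
  exact (ConcreteCategory.congr_hom (ψ.mapPresheaf.naturality (eqToHom U.ι_image_top).op) s)

end Degree0

section Pull

variable (g : X ⟶ Y) (U : Y.Opens) (U' : X.Opens) (h : U' ≤ g ⁻¹ᵁ U)

/-- `pullOnIso` as an isomorphism of functors. -/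
noncomputable def pullOnNatIso :
    Scheme.Modules.restrictFunctor U.ι ⋙ Scheme.Modules.pullback (g.resLE U U' h) ≅
      Scheme.Modules.pullback g ⋙ Scheme.Modules.restrictFunctor U'.ι :=
  Functor.isoWhiskerRight (Scheme.Modules.restrictFunctorIsoPullback U.ι) _ ≪≫
    Scheme.Modules.pullbackComp (g.resLE U U' h) U.ι ≪≫
    Scheme.Modules.pullbackCongr (Scheme.Hom.resLE_comp_ι g h) ≪≫
    (Scheme.Modules.pullbackComp U'.ι g).symm ≪≫
    Functor.isoWhiskerLeft _ (Scheme.Modules.restrictFunctorIsoPullback U'.ι).symm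

theorem pullOnNatIso_hom_app (F : Y.Modules) :
    (pullOnNatIso g U U' h).hom.app F = (pullOnIso g U U' h F).hom :=
  rfl

/-- `g⁻¹ M ⟶ g^* M`, natural in `M`. -/
noncomputable def thetaNat :
    SheafOfModules.toSheaf Y.ringCatSheaf ⋙ inv g.base ⟶
      Scheme.Modules.pullback g ⋙ SheafOfModules.toSheaf X.ringCatSheaf where
  app M := theta g M
  naturality M N φ := by
    refine ((invPushAdj g.base).homEquiv _ _).injective ?_
    dsimp only [Functor.comp_map]
    rw [Adjunction.homEquiv_naturality_left, Adjunction.homEquiv_naturality_right]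
    erw [Equiv.apply_symm_apply, Equiv.apply_symm_apply]
    exact ((SheafOfModules.toSheaf Y.ringCatSheaf).congr_map
      ((Scheme.Modules.pullbackPushforwardAdjunction g).unit.naturality φ)).trans
        (Functor.map_comp _ _ _) |> ((Functor.map_comp _ _ _).symm.trans ·)

/-- The map of abelian sheaves underlying `pullOn`. -/
noncomputable def pullOnNat :
    toAbOn Y U ⋙ inv (g.resLE U U' h).base ⟶ Scheme.Modules.pullback g ⋙ toAbOn X U' :=
  Functor.whiskerLeft (Scheme.Modules.restrictFunctor U.ι) (thetaNat (g.resLE U U' h)) ≫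
    Functor.whiskerRight (pullOnNatIso g U U' h).hom (SheafOfModules.toSheaf _)

theorem pullOn_eq (F : Y.Modules) (p : ℕ) (x : Coh.HHon Y F U p) :
    pullOn g U U' h F p x =
      Sheaf.H.map ((pullOnNat g U U' h).app F) p (pullAb (g.resLE U U' h).base _ p x) :=
  (Sheaf.H.map_comp_apply _ _ _).symm

/-- `pullOn` commutes with the connecting maps. -/
theorem pullOn_extδ {S : ShortComplex Y.Modules} (hA : (S.map (toAbOn Y U)).ShortExact)
    (hA' : ((S.map (Scheme.Modules.pullback g)).map (toAbOn X U')).ShortExact) (p : ℕ)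
    (x : Coh.HHon Y S.X₃ U p) :
    pullOn g U U' h S.X₁ (p + 1) (extδ hA p x) = extδ hA' p (pullOn g U U' h S.X₃ p x) := by
  rw [pullOn_eq, pullOn_eq]
  exact (pullAb_delta (g.resLE U U' h).base hA hA' (S.mapNatTrans (pullOnNat g U U' h)) p x).symm

theorem pullOn_natural {F G : Y.Modules} (ψ : F ⟶ G) (p : ℕ) (x : Coh.HHon Y F U p) :
    pullOn g U U' h G p (mapH ((Scheme.Modules.restrictFunctor U.ι).map ψ) p x) =
      mapH ((Scheme.Modules.restrictFunctor U'.ι).map ((Scheme.Modules.pullback g).map ψ)) p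
        (pullOn g U U' h F p x) := by
  rw [pullOn_eq, pullOn_eq]
  exact hmap_pullAb_natural (g.resLE U U' h).base ((toAbOn Y U).map ψ)
    ((pullOnNat g U U' h).app F) ((pullOnNat g U U' h).app G)
    ((toAbOn X U').map ((Scheme.Modules.pullback g).map ψ))
    ((pullOnNat g U U' h).naturality ψ) p x

end Pull

end Groth.Agent.CohCmpLib
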