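import Groth.Agent.CohCmpLib.Compare
import Groth.Agent.Coherent.HigherQcoh

/-!
# Cohomology of the restriction as cohomology over the open
-/

set_option autoImplicit false
set_option backward.isDefEq.respectTransparency false

universe u

open CategoryTheory CategoryTheory.Limits CategoryTheory.Abelian AlgebraicGeometry Opposite
  TopologicalSpace
open CohPull CohCmp
open Groth.Agent.Coherent Groth.Agent.PicLib

namespace Groth.Agent.CohCmpLib

variable {X : Scheme.{u}} (U : X.Opens)

/-- The section `1` of `ℤ_U` over `U`, as a global section of the inverse image to `U`. -/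
noncomputable def openSec : ((inv U.ι.base).obj (freeSh (X := X.toTopCat) U)).obj.obj (op ⊤) :=
  ((inv U.ι.base).obj (freeSh (X := X.toTopCat) U)).obj.map
    (homOfLE (top_le_ι_preimage U)).op
    (((invPushAdj U.ι.base).unit.app (freeSh (X := X.toTopCat) U)).hom.app (op U)
      (freeShSection (X := X.toTopCat) U))

/-- `toAb ⋙ ι⁻¹ ⟶ toAbOn U`. -/
noncomputable def openNat :
    SheafOfModules.toSheaf X.ringCatSheaf ⋙ inv U.ι.base ⟶ toAbOn X U :=
  thetaNat U.ι ≫ Functor.whiskerRight (Scheme.Modules.restrictFunctorIsoPullback U.ι).inv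
    (SheafOfModules.toSheaf (U : Scheme.{u}).ringCatSheaf)

/-- The class of `openSec`. -/
noncomputable def openClass :
    Sheaf.H ((inv U.ι.base).obj (freeSh (X := X.toTopCat) U)) 0 :=
  (Sheaf.H.equiv₀ ((inv U.ι.base).obj (freeSh (X := X.toTopCat) U)) isTerminalTop).symm (openSec U)

/-- `H^p(U; F) → H^p(U, F|_U)`. -/
noncomputable def onClass (F : X.Modules) (p : ℕ) :
    Ext (freeSh (X := X.toTopCat) U) (Coh.toAb F) p →+ Coh.HHon X F U p :=
  (Sheaf.H.map ((openNat U).app F) p).comp
    (((openClass U).precomp _ (zero_add p)).comp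
      ((inv U.ι.base).mapExtAddHom (freeSh (X := X.toTopCat) U) (Coh.toAb F) p))

theorem onClass_apply (F : X.Modules) (p : ℕ)
    (x : Ext (freeSh (X := X.toTopCat) U) (Coh.toAb F) p) :
    onClass U F p x = Sheaf.H.map ((openNat U).app F) p
      ((openClass U).comp (x.mapExactFunctor (inv U.ι.base)) (zero_add p)) :=
  rfl

theorem onClass_natural {F G : X.Modules} (ψ : F ⟶ G) (p : ℕ)
    (x : Ext (freeSh (X := X.toTopCat) U) (Coh.toAb F) p) :
    onClass U G p (x.comp (Ext.mk₀ ((toAbFunctor X).map ψ)) (add_zero p)) =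
      mapH ((Scheme.Modules.restrictFunctor U.ι).map ψ) p (onClass U F p x) := by
  have h := (openNat U).naturality ψ
  rw [onClass_apply, onClass_apply, Ext.mapExactFunctor_comp, Ext.mapExactFunctor_mk₀]
  refine Eq.trans ?_ (Sheaf.H.map_comp_apply ((openNat U).app F) ((toAbOn X U).map ψ) _)
  refine Eq.trans ?_ (congrArg (fun t => Sheaf.H.map t p _) h)
  refine Eq.trans ?_ (Sheaf.H.map_comp_apply _ _ _).symm
  refine congrArg (Sheaf.H.map _ p) ?_
  rw [Sheaf.H.map_apply]
  exact (Ext.comp_assoc_of_third_deg_zero _ _ _ _).symm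

theorem delta_of_class {X₀ X₁ : TopCat.{u}} (r : X₁ ⟶ X₀) {A : CohTop.Ab X₀}
    (σ : Sheaf.H ((inv r).obj A) 0) {S : ShortComplex (CohTop.Ab X₀)}
    (hS : S.ShortExact) {T : ShortComplex (CohTop.Ab X₁)} (hT : T.ShortExact)
    (η : S.map (inv r) ⟶ T) (p : ℕ) (x : Ext A S.X₃ p) :
    (show Sheaf.H T.X₁ (p + 1) from
      (Sheaf.H.map η.τ₃ p (σ.comp (x.mapExactFunctor (inv r)) (zero_add p))).comp hT.extClass rfl) =
      Sheaf.H.map η.τ₁ (p + 1)
        (σ.comp ((x.comp hS.extClass rfl).mapExactFunctor (inv r)) (zero_add (p + 1))) := by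
  have hS' : (S.map (inv r)).ShortExact := hS.map_of_exact _
  simp only [Sheaf.H.map_apply]
  rw [Ext.mapExactFunctor_comp, Ext.mapExactFunctor_extClass]
  simp only [Ext.comp_assoc_of_third_deg_zero]
  rw [ShortComplex.ShortExact.extClass_naturality hS' hT η]
  refine (Ext.comp_assoc _ _ _ _ (rfl : p + 1 = p + 1) (by omega)).trans
    (congrArg (fun t => Ext.comp σ t (zero_add (p + 1))) ?_)
  exact Ext.comp_assoc_of_second_deg_zero ..

theorem onClass_delta {S : ShortComplex X.Modules} (hS : (S.map (toAbFunctor X)).ShortExact)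
    (hA : (S.map (toAbOn X U)).ShortExact) (p : ℕ)
    (x : Ext (freeSh (X := X.toTopCat) U) (Coh.toAb S.X₃) p) :
    onClass U S.X₁ (p + 1) (x.comp hS.extClass rfl) = extδ hA p (onClass U S.X₃ p x) :=
  (delta_of_class U.ι.base (openClass U) hS hA
    (ShortComplex.homMk ((openNat U).app S.X₁) ((openNat U).app S.X₂) ((openNat U).app S.X₃)
      ((openNat U).naturality S.f).symm ((openNat U).naturality S.g).symm) p x).symm

theorem theta_unit {Z W : Scheme.{u}} (g : Z ⟶ W) (M : W.Modules) (V : W.Opens) (m : Γ(M, V)) :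
    (theta g M).hom.app (op (g ⁻¹ᵁ V))
      (((invPushAdj g.base).unit.app (Coh.toAb M)).hom.app (op V) m) = pullSec g m := by
  have h1 : (invPushAdj g.base).homEquiv _ _ (theta g M) =
      (SheafOfModules.toSheaf W.ringCatSheaf).map
        ((Scheme.Modules.pullbackPushforwardAdjunction g).unit.app M) := Equiv.apply_symm_apply _ _
  have h2 : (invPushAdj g.base).homEquiv _ _ (theta g M) =
      (invPushAdj g.base).unit.app (Coh.toAb M) ≫ (CohTop.push g.base).map (theta g M) :=
    Adjunction.homEquiv_unit _ _ _ _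
  exact ConcreteCategory.congr_hom (congrArg (fun t => t.hom.app (op V)) (h2.symm.trans h1)) m

theorem onClass_zero (F : X.Modules) (φ : freeSh (X := X.toTopCat) U ⟶ Coh.toAb F) :
    onClass U F 0 (Ext.mk₀ φ) = sectH0 F U (freeShEquiv (X := X.toTopCat) U (Coh.toAb F) φ) := by
  rw [onClass_apply, Ext.mapExactFunctor_mk₀]
  have e : (openClass U).comp (Ext.mk₀ ((inv U.ι.base).map φ)) (zero_add 0) =
      Sheaf.H.map ((inv U.ι.base).map φ) 0 (openClass U) := (Sheaf.H.map_apply _ _).symm
  refine (congrArg (Sheaf.H.map ((openNat U).app F) 0) e).trans ?_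
  refine (congrArg (Sheaf.H.map ((openNat U).app F) 0)
    (Sheaf.H.equiv₀_symm_naturality isTerminalTop _ _)).trans ?_
  refine (Sheaf.H.equiv₀_symm_naturality isTerminalTop _ _).trans ?_
  refine congrArg (Sheaf.H.equiv₀ (Coh.toAb (F.restrict U.ι)) isTerminalTop).symm ?_
  let s₀ := freeShSection (X := X.toTopCat) U
  let v := φ.hom.app (op U) s₀
  have h1 : ((inv U.ι.base).map φ).hom.app (op ⊤) (openSec U) =
      ((inv U.ι.base).obj (Coh.toAb F)).obj.map (homOfLE (top_le_ι_preimage U)).op
        (((invPushAdj U.ι.base).unit.app (Coh.toAb F)).hom.app (op U) v) := by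
    refine (NatTrans.naturality_apply ((inv U.ι.base).map φ).hom
      (homOfLE (top_le_ι_preimage U)).op _).trans ?_
    refine congrArg _ ?_
    exact (ConcreteCategory.congr_hom
      (congrArg (fun t => t.hom.app (op U)) ((invPushAdj U.ι.base).unit.naturality φ)) s₀).symm
  refine (congrArg (((openNat U).app F).hom.app (op ⊤)) h1).trans ?_
  have h2 : (theta U.ι F).hom.app (op ⊤) (((inv U.ι.base).obj (Coh.toAb F)).obj.map
      (homOfLE (top_le_ι_preimage U)).op
        (((invPushAdj U.ι.base).unit.app (Coh.toAb F)).hom.app (op U) v)) =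
      topSec U.ι F (top_le_ι_preimage U) v := by
    refine (NatTrans.naturality_apply (theta U.ι F).hom (homOfLE (top_le_ι_preimage U)).op _).trans ?_
    exact congrArg (resM _ (top_le_ι_preimage U)) (theta_unit U.ι F U v)
  refine (congrArg (((Scheme.Modules.restrictFunctorIsoPullback U.ι).inv.app F).app ⊤) h2).trans ?_
  exact restrictIso_inv_app_topSec F U v

theorem bijective_onClass : ∀ (p : ℕ) (F : X.Modules), Function.Bijective (onClass U F p) := by
  intro p
  induction p with
  | zero =>
    intro F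
    have h : ⇑(onClass U F 0) = ⇑(sectH0 F U) ∘ ⇑(freeShEquiv (X := X.toTopCat) U (Coh.toAb F)) ∘
        ⇑(Ext.addEquiv₀ (X := freeSh (X := X.toTopCat) U) (Y := Coh.toAb F)) := funext fun x => by
      obtain ⟨φ, rfl⟩ := Ext.addEquiv₀.symm.surjective x
      refine (onClass_zero U F φ).trans ?_
      simp only [Function.comp_apply, AddEquiv.apply_symm_apply]
    rw [h]
    exact (AddEquiv.bijective _).comp ((AddEquiv.bijective _).comp (AddEquiv.bijective _))
  | succ p ih =>
    intro F
    have : HasInjectiveResolutions X.Modules := hasInjectiveResolutions_modules X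
    obtain ⟨S, hS, rfl, hI⟩ := exists_injective_shortExact F
    have hB := toAb_shortExact hS
    have hA := shortExact_toAbOn U hS
    have := isFlasque_toAb_of_injective S.X₂
    have hvan : Subsingleton (Ext (freeSh (X := X.toTopCat) U) (Coh.toAb S.X₂) (p + 1)) :=
      subsingleton_H'_of_isFlasque (X := X.toTopCat) (Coh.toAb S.X₂) U p
    constructor
    · refine (injective_iff_map_eq_zero _).2 fun x hx => ?_
      obtain ⟨y, rfl⟩ := Ext.covariant_sequence_exact₁ _ hB x (@Subsingleton.elim _ hvan _ _) rfl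
      obtain ⟨w, hw⟩ := exists_mapH_eq U hA (onClass U S.X₃ p y)
        ((onClass_delta U hB hA p y).symm.trans hx)
      obtain ⟨v, rfl⟩ := (ih S.X₂).2 w
      have : y = v.comp (Ext.mk₀ ((toAbFunctor X).map S.g)) (add_zero p) :=
        (ih S.X₃).1 (hw.symm.trans (onClass_natural U S.g p v).symm)
      subst this
      exact (Ext.comp_assoc_of_second_deg_zero _ _ _ _).trans
        ((congrArg (fun t => Ext.comp v t rfl) hB.comp_extClass).trans (Ext.comp_zero _ _ _ _ _))
    · intro z
      obtain ⟨w, rfl⟩ := exists_extδ_eq U hA (subsingleton_HHon_of_injective U S.X₂ p) z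
      obtain ⟨y, rfl⟩ := (ih S.X₃).2 w
      exact ⟨_, onClass_delta U hB hA p y⟩

variable {U}

theorem onClass_res {V : X.Opens} (h : V ≤ U) (F : X.Modules) (p : ℕ)
    (x : Ext (freeSh (X := X.toTopCat) U) (Coh.toAb F) p) :
    resLE F h p (onClass U F p x) = onClass V F p (resH (X := X.toTopCat) (Coh.toAb F) p h x) := by
  let θ : ∀ (q : ℕ) (G : X.Modules), Ext (freeSh (X := X.toTopCat) U) (Coh.toAb G) q ≃+ Coh.HHon X G U q :=
    fun q G => AddEquiv.ofBijective (onClass U G q) (bijective_onClass U q G)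
  have key : ∀ (q : ℕ) (G : X.Modules) (z : Coh.HHon X G U q), resLE G h q z =
      onClass V G q (resH (X := X.toTopCat) (Coh.toAb G) q h ((θ q G).symm z)) := by
    have : HasInjectiveResolutions X.Modules := hasInjectiveResolutions_modules X
    refine ext_delta U (fun q G => Coh.HHon X G V q) (fun q G => resLE G h q)
      (fun q G => ((onClass V G q).comp (resH (X := X.toTopCat) (Coh.toAb G) q h)).comp
        (θ q G).symm.toAddMonoidHom)
      (fun S hS q t => extδ (shortExact_toAbOn V hS) q t) ?_ ?_ ?_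
    · intro S hS hA q z
      exact resLE_extδ h hA (shortExact_toAbOn V hS) q z
    · intro S hS hA q z
      obtain ⟨y, rfl⟩ := (θ q S.X₃).surjective z
      have e1 : (θ (q + 1) S.X₁).symm (extδ hA q (θ q S.X₃ y)) =
          y.comp (toAb_shortExact hS).extClass rfl := by
        rw [AddEquiv.symm_apply_eq]
        exact (onClass_delta U (toAb_shortExact hS) hA q y).symm
      show onClass V S.X₁ (q + 1) (resH (X := X.toTopCat) _ (q + 1) h ((θ (q + 1) S.X₁).symm _)) =
        extδ (shortExact_toAbOn V hS) q (onClass V S.X₃ q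
          (resH (X := X.toTopCat) _ q h ((θ q S.X₃).symm (θ q S.X₃ y))))
      rw [AddEquiv.symm_apply_apply]
      erw [e1]
      refine Eq.trans ?_ (onClass_delta V (toAb_shortExact hS) (shortExact_toAbOn V hS) q _)
      refine congrArg (onClass V S.X₁ (q + 1)) ?_
      exact (Ext.comp_assoc _ _ _ (zero_add q) (rfl : q + 1 = q + 1) (by omega)).symm
    · intro G z
      obtain ⟨y, rfl⟩ := (θ 0 G).surjective z
      obtain ⟨φ, rfl⟩ := Ext.addEquiv₀.symm.surjective y
      show resLE G h 0 (θ 0 G _) =
        onClass V G 0 (resH (X := X.toTopCat) _ 0 h ((θ 0 G).symm (θ 0 G (Ext.mk₀ φ))))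
      rw [AddEquiv.symm_apply_apply]
      refine ((congrArg (resLE G h 0) (onClass_zero U G φ)).trans (resLE_sectH0 G h _)).trans ?_
      refine Eq.trans ?_ (congrArg (onClass V G 0) (Ext.mk₀_comp_mk₀ _ _).symm)
      refine Eq.trans ?_ (onClass_zero V G _).symm
      exact congrArg (sectH0 G V) (freeShEquiv_map (X := X.toTopCat) h (Coh.toAb G) φ).symm
  refine (key p F _).trans ?_
  exact congrArg (fun t => onClass V F p (resH (X := X.toTopCat) (Coh.toAb F) p h t))
    ((θ p F).symm_apply_apply x)

end Groth.Agent.CohCmpLib
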