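import Groth.Agent.CohCmpLib.Connect

/-!
# Restriction of classes to smaller opens
-/

set_option autoImplicit false
set_option backward.isDefEq.respectTransparency false

universe u

open CategoryTheory CategoryTheory.Limits CategoryTheory.Abelian AlgebraicGeometry Opposite
  TopologicalSpace
open CohPull CohCmp
open Groth.Agent.Coherent

namespace Groth.Agent.CohCmpLib

variable {X : Scheme.{u}}

section Res

variable (F : X.Modules) {U U' : X.Opens} (h : U' ≤ U)

/-- The map of abelian sheaves underlying `resLE`. -/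
noncomputable def resNat :
    toAbOn X U ⋙ inv ((𝟙 X : X ⟶ X).resLE U U' (by rwa [Scheme.Hom.id_preimage])).base ⟶
      toAbOn X U' :=
  pullOnNat (𝟙 X) U U' _ ≫ Functor.whiskerRight (Scheme.Modules.pullbackId X).hom (toAbOn X U') ≫
    (Functor.leftUnitor _).hom

theorem resLE_eq (p : ℕ) (x : Coh.HHon X F U p) :
    resLE F h p x = Sheaf.H.map ((resNat h).app F) p
      (pullAb ((𝟙 X : X ⟶ X).resLE U U' (by rwa [Scheme.Hom.id_preimage])).base _ p x) := by
  refine (congrArg (mapH ((Scheme.Modules.restrictFunctor U'.ι).map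
    ((Scheme.Modules.pullbackId X).hom.app F)) p)
      (pullOn_eq (𝟙 X) U U' (by rwa [Scheme.Hom.id_preimage]) F p x)).trans ?_
  exact hmap_comp_pullAb _ ((pullOnNat (𝟙 X) U U' _).app F)
    ((toAbOn X U').map ((Scheme.Modules.pullbackId X).hom.app F)) _
    ((congrArg (_ ≫ ·) (Category.comp_id _))) p x

theorem resLE_apply (p : ℕ) (x : Coh.HHon X F U p) :
    resLE F h p x = mapH ((Scheme.Modules.restrictFunctor U'.ι).map
      ((Scheme.Modules.pullbackId X).hom.app F)) p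
        (pullOn (𝟙 X) U U' (by rwa [Scheme.Hom.id_preimage]) F p x) :=
  rfl

theorem delta_of_eq {X₀ X₁ : TopCat.{u}} (r : X₁ ⟶ X₀) {S : ShortComplex (CohTop.Ab X₀)}
    (hS : S.ShortExact) {T : ShortComplex (CohTop.Ab X₁)} (hT : T.ShortExact)
    (η : S.map (inv r) ⟶ T) (p : ℕ) (R₃ : Sheaf.H S.X₃ p → Sheaf.H T.X₃ p)
    (R₁ : Sheaf.H S.X₁ (p + 1) → Sheaf.H T.X₁ (p + 1))
    (e₃ : ∀ x, R₃ x = Sheaf.H.map η.τ₃ p (pullAb r S.X₃ p x))
    (e₁ : ∀ x, R₁ x = Sheaf.H.map η.τ₁ (p + 1) (pullAb r S.X₁ (p + 1) x))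
    (x : Sheaf.H S.X₃ p) :
    R₁ (x.comp hS.extClass rfl) =
      (show Sheaf.H T.X₁ (p + 1) from (R₃ x).comp hT.extClass rfl) := by
  rw [e₁, e₃]
  exact (pullAb_delta r hS hT η p x).symm

omit F in
theorem resLE_extδ {S : ShortComplex X.Modules} (hA : (S.map (toAbOn X U)).ShortExact)
    (hA' : (S.map (toAbOn X U')).ShortExact) (p : ℕ) (x : Coh.HHon X S.X₃ U p) :
    resLE S.X₁ h (p + 1) (extδ hA p x) = extδ hA' p (resLE S.X₃ h p x) :=
  delta_of_eq ((𝟙 X : X ⟶ X).resLE U U' (by rwa [Scheme.Hom.id_preimage])).base hA hA'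
    (S.mapNatTrans (resNat h)) p (fun z => resLE S.X₃ h p z) (fun z => resLE S.X₁ h (p + 1) z)
    (fun z => resLE_eq S.X₃ h p z) (fun z => resLE_eq S.X₁ h (p + 1) z) x

end Res

end Groth.Agent.CohCmpLib
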